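import Mathlib

/-!
# Counting the characters from the multiplicities of the exceptional differences

`m i χ` are the multiplicities of `f` virtual characters of norm `e + 1` with mutual inner products
`e`, vanishing at the points of `Y`; the functions `v χ` need at least `e` generators.
-/

set_option autoImplicit false

namespace Cfsg.Agent.BlockThms.OrderP

variable {ι : Type*}

theorem eq_of_sum_sq_le_one {E : Finset ι} {x : ι → ℤ} (h : ∑ χ ∈ E, x χ ^ 2 ≤ 1) {a b : ι}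
    (ha : a ∈ E) (hb : b ∈ E) (hxa : x a ≠ 0) (hxb : x b ≠ 0) : a = b := by
  classical
  by_contra hne
  have h1 : ∑ χ ∈ ({a, b} : Finset ι), x χ ^ 2 ≤ ∑ χ ∈ E, x χ ^ 2 :=
    Finset.sum_le_sum_of_subset_of_nonneg
      (Finset.insert_subset ha (Finset.singleton_subset_iff.2 hb)) fun χ _ _ => sq_nonneg _
  rw [Finset.sum_pair hne] at h1
  have h2 : 0 < x a ^ 2 := by positivity
  have h3 : 0 < x b ^ 2 := by positivity
  omega

theorem sq_le_sum {E : Finset ι} (x : ι → ℤ) {a : ι} (ha : a ∈ E) :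
    x a ^ 2 ≤ ∑ χ ∈ E, x χ ^ 2 :=
  Finset.single_le_sum (fun χ _ => sq_nonneg (x χ)) ha

theorem eq_pm_one_of_sq_le_one {z : ℤ} (h0 : z ≠ 0) (h : z ^ 2 ≤ 1) : z = 1 ∨ z = -1 := by
  have h1 : -1 ≤ z := by nlinarith
  have h2 : z ≤ 1 := by nlinarith
  omega

/-- A difference of norm two vanishing on `Y` joins two elements with equal values. -/
theorem exists_common {Y : Type*} {S : Finset ι} {D : ι → ℤ} {v : ι → Y → ℂ} {y₁ : Y}
    (hdeg : ∀ χ ∈ S, ∃ n : ℕ, 0 < n ∧ v χ y₁ = n) (h2 : ∑ χ ∈ S, D χ ^ 2 = 2)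
    (hvan : ∀ y, ∑ χ ∈ S, (D χ : ℂ) * v χ y = 0) :
    ∃ w : Y → ℂ, ∀ χ ∈ S, D χ ≠ 0 → v χ = w := by
  classical
  set U := S.filter fun χ => D χ ≠ 0 with hU
  have hsum : ∑ χ ∈ U, D χ ^ 2 = 2 := by
    rw [hU, Finset.sum_filter_of_ne (p := fun χ => D χ ≠ 0) (fun χ _ h h0 => h (by rw [h0]; ring))]
    exact h2
  have hone : ∀ χ ∈ U, D χ = 1 ∨ D χ = -1 := by
    intro χ hχ
    refine eq_pm_one_of_sq_le_one (Finset.mem_filter.1 hχ).2 ?_
    have h3 := (sq_le_sum D hχ).trans hsum.le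
    have h4 : D χ < 2 := by nlinarith
    have h5 : -2 < D χ := by nlinarith
    have h6 : D χ = -1 ∨ D χ = 0 ∨ D χ = 1 := by omega
    rcases h6 with h6 | h6 | h6 <;> rw [h6] <;> norm_num
  have hcard : U.card = 2 := by
    have h3 : ∀ χ ∈ U, D χ ^ 2 = 1 := fun χ hχ => by
      rcases hone χ hχ with h | h <;> rw [h] <;> norm_num
    rw [Finset.sum_congr rfl h3, Finset.sum_const, nsmul_eq_mul, mul_one] at hsum
    exact_mod_cast hsum
  obtain ⟨a, b, hab, hUab⟩ := Finset.card_eq_two.1 hcard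
  have haU : a ∈ U := hUab ▸ Finset.mem_insert_self a _
  have hbU : b ∈ U := hUab ▸ Finset.mem_insert_of_mem (Finset.mem_singleton_self b)
  have key : ∀ y, (D a : ℂ) * v a y + (D b : ℂ) * v b y = 0 := fun y => by
    rw [← hvan y, ← Finset.sum_filter_of_ne (p := fun χ => D χ ≠ 0) (fun χ _ h e => h (by
      rw [e]; simp)), ← hU, hUab, Finset.sum_pair hab]
  obtain ⟨na, hna, hva⟩ := hdeg a (Finset.mem_filter.1 haU).1
  obtain ⟨nb, hnb, hvb⟩ := hdeg b (Finset.mem_filter.1 hbU).1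
  have h1 := key y₁
  rw [hva, hvb] at h1
  have h1' : D a * (na : ℤ) + D b * (nb : ℤ) = 0 := by exact_mod_cast h1
  have hsign : D b = -D a := by
    rcases hone a haU with h | h <;> rcases hone b hbU with h' | h' <;> rw [h, h'] at h1' ⊢ <;>
      omega
  refine ⟨v a, fun χ hχ hD => ?_⟩
  have hmem : χ ∈ U := Finset.mem_filter.2 ⟨hχ, hD⟩
  rw [hUab, Finset.mem_insert, Finset.mem_singleton] at hmem
  rcases hmem with rfl | rfl
  · rfl
  · funext y
    have h3 := key y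
    rw [hsign] at h3
    rcases hone a haU with h | h <;> rw [h] at h3 <;> push_cast at h3
    · linear_combination -h3
    · linear_combination h3

/-- The structure: `e` constant columns `a = ±1` and `f` columns with one entry `s = ±1`. -/
theorem block_structure {Y : Type*} {f e : ℕ} (hf : 0 < f) (he : 0 < e) (S : Finset ι) (o : ι)
    (ho : o ∈ S)
    (m : Fin f → ι → ℤ) (v : ι → Y → ℂ) (y₁ : Y)
    (hdeg : ∀ χ ∈ S, ∃ n : ℕ, 0 < n ∧ v χ y₁ = n)
    (hne : ∀ χ ∈ S, ∃ i, m i χ ≠ 0)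
    (hinner : ∀ i j, ∑ χ ∈ S, m i χ * m j χ = (e : ℤ) + if i = j then 1 else 0)
    (ho1 : ∀ i, m i o = 1)
    (hvan : ∀ i y, ∑ χ ∈ S, (m i χ : ℂ) * v χ y = 0)
    (hspan : ∀ T : Finset ι, T ⊆ S →
      (∀ χ ∈ S, ∃ c : ι → ℤ, ∀ y, v χ y = ∑ ψ ∈ T, (c ψ : ℂ) * v ψ y) → e ≤ T.card) :
    ∃ X, X ⊆ S ∧ o ∈ X ∧ X.card = e ∧ S.card = e + f ∧ ∃ (a : ι → ℤ) (s : ℤ),
      (s = 1 ∨ s = -1) ∧ (∀ χ ∈ X, (a χ = 1 ∨ a χ = -1) ∧ ∀ i, m i χ = a χ) ∧
      (∀ θ ∈ S, θ ∉ X → ∑ i, m i θ = s) ∧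
      (∀ θ ∈ S, θ ∉ X → ∀ θ' ∈ S, θ' ∉ X → v θ = v θ') ∧
      ∀ θ ∈ S, θ ∉ X → ∀ y, (s : ℂ) * v θ y + ∑ χ ∈ X, (a χ : ℂ) * v χ y = 0 := by
  classical
  set i₀ : Fin f := ⟨0, hf⟩ with hi₀
  set N0 := S.filter fun χ => ∀ i, m i χ = m i₀ χ with hN0
  set E := S.filter fun χ => ¬ ∀ i, m i χ = m i₀ χ with hE
  have hsplit : ∀ F : ι → ℤ, ∑ χ ∈ N0, F χ + ∑ χ ∈ E, F χ = ∑ χ ∈ S, F χ := fun F =>
    Finset.sum_filter_add_sum_filter_not S _ F
  have hoN : o ∈ N0 := Finset.mem_filter.2 ⟨ho, fun i => by rw [ho1, ho1]⟩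
  have hNpos : ∀ χ ∈ N0, 1 ≤ m i₀ χ ^ 2 := by
    intro χ hχ
    obtain ⟨hS, hc⟩ := Finset.mem_filter.1 hχ
    obtain ⟨i, hi⟩ := hne χ hS
    rw [hc i] at hi
    have : 0 < m i₀ χ ^ 2 := by positivity
    omega
  have hNsum : (N0.card : ℤ) ≤ ∑ χ ∈ N0, m i₀ χ ^ 2 := by
    simpa using Finset.sum_le_sum hNpos
  have hNi : ∀ i, ∑ χ ∈ N0, m i χ ^ 2 = ∑ χ ∈ N0, m i₀ χ ^ 2 := fun i =>
    Finset.sum_congr rfl fun χ hχ => by rw [(Finset.mem_filter.1 hχ).2 i]
  have hnorm : ∀ i, ∑ χ ∈ N0, m i₀ χ ^ 2 + ∑ χ ∈ E, m i χ ^ 2 = (e : ℤ) + 1 := by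
    intro i
    rw [← hNi i, hsplit fun χ => m i χ ^ 2]
    simpa [sq] using hinner i i
  -- the values on `E` agree
  have hdiff : ∀ j, j ≠ i₀ → ∃ w : Y → ℂ, ∀ χ ∈ S, m i₀ χ - m j χ ≠ 0 → v χ = w := by
    intro j hj
    refine exists_common (D := fun χ => m i₀ χ - m j χ) hdeg ?_ fun y => ?_
    · have h1 := hinner i₀ i₀
      have h2 := hinner i₀ j
      have h3 := hinner j j
      rw [if_pos rfl] at h1 h3
      rw [if_neg hj.symm] at h2
      rw [Finset.sum_congr rfl fun χ _ => show (m i₀ χ - m j χ) ^ 2 =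
        m i₀ χ * m i₀ χ - 2 * (m i₀ χ * m j χ) + m j χ * m j χ by ring,
        Finset.sum_add_distrib, Finset.sum_sub_distrib, ← Finset.mul_sum, h1, h2, h3]
      ring
    · simp only [Int.cast_sub, sub_mul, Finset.sum_sub_distrib, hvan, sub_zero]
  have hlink : ∀ j k, j ≠ i₀ → k ≠ i₀ → ∀ a ∈ S, m i₀ a - m j a ≠ 0 → ∀ b ∈ S,
      m i₀ b - m k b ≠ 0 → v a = v b := by
    intro j k hj hk a ha hDa b hb hDb
    obtain ⟨w, hw⟩ := hdiff j hj
    obtain ⟨w', hw'⟩ := hdiff k hk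
    rw [hw a ha hDa, hw' b hb hDb]
    by_cases hjk : j = k
    · subst hjk
      rw [← hw a ha hDa, hw' a ha hDa]
    · obtain ⟨χ, hχ, hχ0⟩ : ∃ χ ∈ S, (m i₀ χ - m j χ) * (m i₀ χ - m k χ) ≠ 0 := by
        refine Finset.exists_ne_zero_of_sum_ne_zero ?_
        have h1 := hinner i₀ i₀
        have h2 := hinner i₀ k
        have h3 := hinner j i₀
        have h4 := hinner j k
        rw [if_pos rfl] at h1
        rw [if_neg hk.symm] at h2
        rw [if_neg hj] at h3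
        rw [if_neg hjk] at h4
        simp only [mul_sub, sub_mul, Finset.sum_sub_distrib, h1, h2, h3, h4]
        ring_nf
        exact one_ne_zero
      rw [← hw χ hχ (left_ne_zero_of_mul hχ0), hw' χ hχ (right_ne_zero_of_mul hχ0)]
  have hEdiff : ∀ χ ∈ E, ∃ j, j ≠ i₀ ∧ m i₀ χ - m j χ ≠ 0 := by
    intro χ hχ
    obtain ⟨j, hj⟩ := not_forall.1 (Finset.mem_filter.1 hχ).2
    exact ⟨j, fun h => hj (h ▸ rfl), sub_ne_zero.2 fun h => hj h.symm⟩
  -- the spanning set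
  have hspan' : ∀ (T : Finset ι) (r : ι → ι), T ⊆ S → (∀ χ ∈ S, χ ≠ o → r χ ∈ T) →
      (∀ χ ∈ S, χ ≠ o → v χ = v (r χ)) → e ≤ T.card := by
    intro T r hT hr hv
    refine hspan T hT fun χ hχ => ?_
    by_cases hχo : χ = o
    · refine ⟨fun t => -∑ ψ ∈ (S.erase o).filter (fun ψ => r ψ = t), m i₀ ψ, fun y => ?_⟩
      rw [hχo]
      have h1 := hvan i₀ y
      rw [← Finset.add_sum_erase S _ ho, ho1, Int.cast_one, one_mul,
        ← Finset.sum_fiberwise_of_maps_to (g := r) (t := T)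
          (fun ψ hψ => hr ψ (Finset.mem_of_mem_erase hψ) (Finset.ne_of_mem_erase hψ))] at h1
      rw [eq_neg_of_add_eq_zero_left h1, ← Finset.sum_neg_distrib]
      refine Finset.sum_congr rfl fun t _ => ?_
      push_cast
      rw [neg_mul, Finset.sum_mul]
      congr 1
      refine Finset.sum_congr rfl fun ψ hψ => ?_
      have hψ' := Finset.mem_filter.1 hψ
      rw [hv ψ (Finset.mem_of_mem_erase hψ'.1) (Finset.ne_of_mem_erase hψ'.1), hψ'.2]
    · refine ⟨fun t => if t = r χ then 1 else 0, fun y => ?_⟩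
      rw [Finset.sum_eq_single (r χ) (fun t _ ht => by simp [ht])
        (fun h => absurd (hr χ hχ hχo) h), hv χ hχ hχo]
      simp
  rcases E.eq_empty_or_nonempty with hE0 | ⟨c₀, hc₀⟩
  · have hall : ∀ χ ∈ S, ∀ i, m i χ = m i₀ χ := by
      intro χ hχ
      by_contra h
      exact Finset.notMem_empty χ (hE0 ▸ (Finset.mem_filter.2 ⟨hχ, h⟩ : χ ∈ E))
    have hf1 : f = 1 := by
      by_contra h
      have hj : (⟨1, by omega⟩ : Fin f) ≠ i₀ := fun h' => absurd (congrArg Fin.val h') one_ne_zero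
      have h1 := hinner i₀ i₀
      have h2 := hinner i₀ ⟨1, by omega⟩
      rw [if_pos rfl] at h1
      rw [if_neg hj.symm, Finset.sum_congr rfl fun χ hχ => by rw [hall χ hχ ⟨1, by omega⟩], h1] at h2
      omega
    have hS : N0 = S := Finset.filter_true_of_mem hall
    have hT := hspan' (S.erase o) id (Finset.erase_subset _ _)
      (fun χ hχ hne => Finset.mem_erase.2 ⟨hne, hχ⟩) (fun _ _ _ => rfl)
    rw [Finset.card_erase_of_mem ho] at hT
    have h1 := hnorm i₀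
    rw [hE0, Finset.sum_empty, add_zero, hS] at h1
    rw [hS] at hNsum
    have hcard : S.card = e + 1 := by
      have := Finset.card_pos.2 ⟨o, ho⟩
      omega
    have hone : ∀ χ ∈ S, m i₀ χ = 1 ∨ m i₀ χ = -1 := by
      intro χ hχ
      have h2 : ∑ ψ ∈ S, (m i₀ ψ ^ 2 - 1) = 0 := by
        rw [Finset.sum_sub_distrib, h1, Finset.sum_const, hcard]
        simp
      have h3 := (Finset.sum_eq_zero_iff_of_nonneg fun ψ hψ => sub_nonneg.2
        (hNpos ψ (hS.symm ▸ hψ))).1 h2 χ hχ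
      exact sq_eq_one_iff.1 (sub_eq_zero.1 h3)
    obtain ⟨c, hc⟩ : (S.erase o).Nonempty := Finset.card_pos.1 (by
      rw [Finset.card_erase_of_mem ho, hcard]; omega)
    have hcS := Finset.mem_of_mem_erase hc
    refine ⟨S.erase c, Finset.erase_subset _ _,
      Finset.mem_erase.2 ⟨(Finset.ne_of_mem_erase hc).symm, ho⟩,
      by rw [Finset.card_erase_of_mem hcS, hcard]; omega, by rw [hcard, hf1],
      m i₀, m i₀ c, hone c hcS, fun χ hχ => ⟨hone χ (Finset.mem_of_mem_erase hχ),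
        hall χ (Finset.mem_of_mem_erase hχ)⟩, ?_, ?_, ?_⟩
    · intro θ hθ hθX
      obtain rfl : θ = c := by_contra fun h => hθX (Finset.mem_erase.2 ⟨h, hθ⟩)
      rw [Finset.sum_congr rfl fun i _ => hall θ hθ i, Finset.sum_const, Finset.card_univ,
        Fintype.card_fin, nsmul_eq_mul, hf1, Nat.cast_one, one_mul]
    · intro θ hθ hθX θ' hθ' hθX'
      rw [show θ = c from by_contra fun h => hθX (Finset.mem_erase.2 ⟨h, hθ⟩),
        show θ' = c from by_contra fun h => hθX' (Finset.mem_erase.2 ⟨h, hθ'⟩)]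
    · intro θ hθ hθX y
      obtain rfl : θ = c := by_contra fun h => hθX (Finset.mem_erase.2 ⟨h, hθ⟩)
      rw [Finset.add_sum_erase S (fun χ => (m i₀ χ : ℂ) * v χ y) hcS]
      exact hvan i₀ y
  · obtain ⟨j₀, hj₀, hDc₀⟩ := hEdiff c₀ hc₀
    have hc₀S := (Finset.mem_filter.1 hc₀).1
    have hEv : ∀ χ ∈ E, v χ = v c₀ := by
      intro χ hχ
      obtain ⟨j, hj, hD⟩ := hEdiff χ hχ
      exact hlink j j₀ hj hj₀ χ (Finset.mem_filter.1 hχ).1 hD c₀ hc₀S hDc₀
    have hc₀N : c₀ ∉ N0 := fun h => (Finset.mem_filter.1 hc₀).2 (Finset.mem_filter.1 h).2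
    have hT := hspan' (insert c₀ (N0.erase o)) (fun χ => if χ ∈ E then c₀ else χ)
      (Finset.insert_subset hc₀S ((Finset.erase_subset _ _).trans (Finset.filter_subset _ _)))
      (fun χ hχ hne => by
        split_ifs with h
        · exact Finset.mem_insert_self _ _
        · exact Finset.mem_insert_of_mem (Finset.mem_erase.2 ⟨hne, Finset.mem_filter.2
            ⟨hχ, by_contra fun h' => h (Finset.mem_filter.2 ⟨hχ, h'⟩)⟩⟩))
      (fun χ hχ _ => by
        split_ifs with h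
        · exact hEv χ h
        · rfl)
    rw [Finset.card_insert_of_notMem fun h => hc₀N (Finset.mem_of_mem_erase h),
      Finset.card_erase_add_one hoN] at hT
    have hQle : ∀ i, ∑ χ ∈ E, m i χ ^ 2 ≤ 1 := fun i => by
      have := hnorm i
      omega
    have hR : ∀ i j, i ≠ j → ∑ χ ∈ E, m i χ ^ 2 + ∑ χ ∈ E, m j χ ^ 2
        - 2 * ∑ χ ∈ E, m i χ * m j χ = 2 := by
      intro i j hij
      have h1 := hsplit fun χ => m i χ * m j χ
      have h2 := hinner i j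
      rw [if_neg hij] at h2
      have h3 := hnorm i
      have h4 := hnorm j
      have h5 : ∑ χ ∈ N0, m i χ * m j χ = ∑ χ ∈ N0, m i₀ χ ^ 2 :=
        Finset.sum_congr rfl fun χ hχ => by
          rw [(Finset.mem_filter.1 hχ).2 i, (Finset.mem_filter.1 hχ).2 j, sq]
      omega
    have hother : ∀ i : Fin f, ∃ j, i ≠ j := fun i => by
      rcases eq_or_ne i i₀ with h | h
      · exact ⟨j₀, h ▸ hj₀.symm⟩
      · exact ⟨i₀, h⟩
    have hQ : ∀ i, ∑ χ ∈ E, m i χ ^ 2 = 1 := by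
      intro i
      obtain ⟨j, hij⟩ := hother i
      rcases (show ∑ χ ∈ E, m i χ ^ 2 = 0 ∨ ∑ χ ∈ E, m i χ ^ 2 = 1 by
        have := hQle i
        have := Finset.sum_nonneg (s := E) (f := fun χ => m i χ ^ 2) fun χ _ => sq_nonneg _
        omega) with h | h
      · exfalso
        have h0 : ∀ χ ∈ E, m i χ = 0 := fun χ hχ => pow_eq_zero_iff two_ne_zero |>.1
          ((Finset.sum_eq_zero_iff_of_nonneg fun χ _ => sq_nonneg _).1 h χ hχ)
        have h1 := hR i j hij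
        rw [h, Finset.sum_eq_zero (f := fun χ => m i χ * m j χ)
          (fun χ hχ => by rw [h0 χ hχ, zero_mul])] at h1
        have := hQle j
        omega
      · exact h
    have hN0card : N0.card = e := by
      have := hnorm i₀
      rw [hQ i₀] at this
      omega
    have hN1 : ∀ χ ∈ N0, m i₀ χ = 1 ∨ m i₀ χ = -1 := by
      intro χ hχ
      have h2 : ∑ ψ ∈ N0, (m i₀ ψ ^ 2 - 1) = 0 := by
        have := hnorm i₀
        rw [hQ i₀] at this
        rw [Finset.sum_sub_distrib, Finset.sum_const, hN0card]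
        simp
        omega
      exact sq_eq_one_iff.1 (sub_eq_zero.1
        ((Finset.sum_eq_zero_iff_of_nonneg fun ψ hψ => sub_nonneg.2 (hNpos ψ hψ)).1 h2 χ hχ))
    have hcol : ∀ i, ∃ χ, χ ∈ E ∧ m i χ ≠ 0 := fun i => by
      obtain ⟨χ, hχ, h⟩ := Finset.exists_ne_zero_of_sum_ne_zero
        (show ∑ χ ∈ E, m i χ ^ 2 ≠ 0 by rw [hQ i]; exact one_ne_zero)
      exact ⟨χ, hχ, fun h0 => h (by rw [h0]; ring)⟩
    choose col hcolE hcol0 using hcol
    have huniq : ∀ i, ∀ χ ∈ E, m i χ ≠ 0 → χ = col i := fun i χ hχ h =>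
      eq_of_sum_sq_le_one (hQle i) hχ (hcolE i) h (hcol0 i)
    have hinj : Function.Injective col := by
      intro i j hij
      by_contra hne'
      have h1 := hR i j hne'
      rw [hQ i, hQ j, Finset.sum_eq_single (col i)] at h1
      · have hz : m i (col i) * m j (col i) = 0 := by linarith
        exact mul_ne_zero (hcol0 i) (hij ▸ hcol0 j) hz
      · intro χ hχ hχi
        rw [by_contra fun h => hχi (huniq i χ hχ h), zero_mul]
      · exact fun h => absurd (hcolE i) h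
    have hsurj : ∀ χ ∈ E, ∃ i, col i = χ := fun χ hχ => by
      obtain ⟨i, hi⟩ := hne χ (Finset.mem_filter.1 hχ).1
      exact ⟨i, (huniq i χ hχ hi).symm⟩
    have hEcard : E.card = f := by
      rw [← Fintype.card_fin f, ← Finset.card_univ]
      refine (Finset.card_bij (fun i _ => col i) (fun i _ => hcolE i) (fun i _ j _ h => hinj h)
        fun χ hχ => ?_).symm
      obtain ⟨i, hi⟩ := hsurj χ hχ
      exact ⟨i, Finset.mem_univ i, hi⟩
    have hSX : ∀ θ ∈ S, θ ∉ N0 → θ ∈ E := fun θ hθ h =>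
      Finset.mem_filter.2 ⟨hθ, fun h' => h (Finset.mem_filter.2 ⟨hθ, h'⟩)⟩
    have hcards : S.card = e + f := by
      have := Finset.card_filter_add_card_filter_not (s := S) (fun χ => ∀ i, m i χ = m i₀ χ)
      rw [← hN0, ← hE, hN0card, hEcard] at this
      omega
    have hrel : ∀ i y, (m i (col i) : ℂ) * v c₀ y + ∑ χ ∈ N0, (m i₀ χ : ℂ) * v χ y = 0 := by
      intro i y
      have h1 := hvan i y
      rw [← Finset.sum_filter_add_sum_filter_not S (fun χ => ∀ i, m i χ = m i₀ χ), ← hN0, ← hE,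
        Finset.sum_eq_single_of_mem (col i) (hcolE i) (fun χ hχ hne' => by
          rw [by_contra fun h => hne' (huniq i χ hχ h), Int.cast_zero, zero_mul]),
        Finset.sum_congr rfl fun χ hχ => by rw [(Finset.mem_filter.1 hχ).2 i],
        hEv _ (hcolE i), add_comm] at h1
      exact h1
    have hsign : ∀ i, m i (col i) = m i₀ (col i₀) := by
      intro i
      obtain ⟨n, hn, hvn⟩ := hdeg c₀ hc₀S
      have h1 := hrel i y₁
      have h2 := hrel i₀ y₁
      rw [← h2, hvn] at h1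
      have h3 := mul_right_cancel₀ (Nat.cast_ne_zero.2 hn.ne') (add_right_cancel h1)
      exact_mod_cast h3
    refine ⟨N0, Finset.filter_subset _ _, hoN, hN0card, hcards, m i₀, m i₀ (col i₀),
      eq_pm_one_of_sq_le_one (hcol0 i₀) ((sq_le_sum _ (hcolE i₀)).trans (hQle i₀)),
      fun χ hχ => ⟨hN1 χ hχ, (Finset.mem_filter.1 hχ).2⟩, ?_, ?_, ?_⟩
    · intro θ hθ hθX
      obtain ⟨i, rfl⟩ := hsurj θ (hSX θ hθ hθX)
      rw [Finset.sum_eq_single i]
      · exact hsign i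
      · intro j _ hj
        by_contra h
        exact hj (hinj (huniq j (col i) (hcolE i) h)).symm
      · exact fun h => absurd (Finset.mem_univ i) h
    · intro θ hθ hθX θ' hθ' hθX'
      rw [hEv θ (hSX θ hθ hθX), hEv θ' (hSX θ' hθ' hθX')]
    · intro θ hθ hθX y
      rw [hEv θ (hSX θ hθ hθX)]
      exact hrel i₀ y

end Cfsg.Agent.BlockThms.OrderP
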