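import Mathlib
import Cfsg.Agent.Blocks.PPart
import Cfsg.Agent.Blocks.Projection
import Cfsg.Agent.BlockThms.NormalCor
import Cfsg.Agent.BlockThms.BrauerMap
import Cfsg.Agent.Fusion.Transfer
import Cfsg.Agent.Core.PCore

/-!
# A Sylow subgroup of prime order: the local group theory
-/

set_option autoImplicit false

namespace Cfsg.Agent.BlockThms.OrderP

open Cfsg.Agent Cfsg.Agent.Blocks

universe u

variable {G : Type u} [Group G] {p : ℕ}

/-- `P` has order `p` and automizer of order `e`. -/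
structure Setup (P : Sylow p G) (e : ℕ) : Prop where
  card : Nat.card (P : Subgroup G) = p
  rel : (Subgroup.centralizer (P : Set G)).relIndex (Subgroup.normalizer (P : Set G)) = e

variable [Fact p.Prime] {P : Sylow p G} {e : ℕ} (hS : Setup P e)
include hS

theorem Setup.zpowers_eq {u : G} (hu : u ∈ (P : Subgroup G)) (hu1 : u ≠ 1) :
    Subgroup.zpowers u = (P : Subgroup G) := by
  have h := zpowers_eq_top_of_prime_card (G := (P : Subgroup G)) hS.card
    (g := ⟨u, hu⟩) (fun e => hu1 (congrArg Subtype.val e))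
  have := congrArg (Subgroup.map (P : Subgroup G).subtype) h
  rwa [MonoidHom.map_zpowers, ← MonoidHom.range_eq_map, Subgroup.range_subtype] at this

theorem Setup.comm {u v : G} (hu : u ∈ (P : Subgroup G)) (hv : v ∈ (P : Subgroup G)) :
    u * v = v * u := by
  by_cases h1 : u = 1
  · subst h1; simp
  rw [← hS.zpowers_eq hu h1] at hv
  obtain ⟨i, rfl⟩ := hv
  exact ((Commute.refl u).zpow_right i).eq

theorem Setup.centralizer_eq {u : G} (hu : u ∈ (P : Subgroup G)) (hu1 : u ≠ 1) :
    Subgroup.centralizer ({u} : Set G) = Subgroup.centralizer (P : Set G) := by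
  refine le_antisymm (fun c hc => Subgroup.mem_centralizer_iff.2 fun v hv => ?_)
    (Subgroup.centralizer_le (Set.singleton_subset_iff.2 hu))
  change v ∈ (P : Subgroup G) at hv
  rw [← hS.zpowers_eq hu hu1] at hv
  obtain ⟨i, rfl⟩ := hv
  exact (((show Commute c u from Subgroup.mem_centralizer_singleton_iff.1 hc).zpow_right i).eq).symm

theorem Setup.mem_normalizer {u c : G} (hu : u ∈ (P : Subgroup G)) (hu1 : u ≠ 1)
    (hc : c⁻¹ * u * c ∈ (P : Subgroup G)) : c ∈ Subgroup.normalizer (P : Set G) := by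
  have h1 : c⁻¹ * u * c ≠ 1 := fun h => hu1 (by
    rw [mul_assoc, inv_mul_eq_one] at h
    exact mul_eq_right.1 h.symm)
  refine Subgroup.mem_normalizer_iff.2 fun a => ?_
  constructor
  · intro ha
    change a ∈ (P : Subgroup G) at ha
    rw [← hS.zpowers_eq hc h1] at ha
    obtain ⟨i, rfl⟩ := ha
    rw [← conj_zpow, show c * (c⁻¹ * u * c) * c⁻¹ = u by group]
    exact zpow_mem hu i
  · intro ha
    change c * a * c⁻¹ ∈ (P : Subgroup G) at ha
    rw [← hS.zpowers_eq hu hu1] at ha
    obtain ⟨i, hi⟩ := ha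
    have e1 : a = (c⁻¹ * u * c⁻¹⁻¹) ^ i := by
      rw [conj_zpow, show u ^ i = c * a * c⁻¹ from hi]; group
    rw [inv_inv] at e1
    rw [e1]
    exact zpow_mem hc i

theorem Setup.conj_mem {u c : G} (hu : u ∈ (P : Subgroup G))
    (hc : c ∈ Subgroup.normalizer (P : Set G)) : c * u * c⁻¹ ∈ (P : Subgroup G) :=
  (Subgroup.mem_normalizer_iff.1 hc u).1 hu

theorem Setup.le_centralizer : (P : Subgroup G) ≤ Subgroup.centralizer (P : Set G) :=
  fun _ hu => Subgroup.mem_centralizer_iff.2 fun _ hv => hS.comm hv hu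

theorem Setup.card_normalizer [Finite G] :
    Nat.card (Subgroup.normalizer (P : Set G)) =
      e * Nat.card (Subgroup.centralizer (P : Set G)) := by
  rw [← Subgroup.card_mul_index ((Subgroup.centralizer (P : Set G)).subgroupOf
    (Subgroup.normalizer (P : Set G))), mul_comm e,
    Nat.card_congr (Subgroup.subgroupOfEquivOfLe (Subgroup.centralizer_le_normalizer _)).toEquiv,
    ← hS.rel]
  rfl

theorem Setup.e_pos [Finite G] : 0 < e := by
  rw [← hS.rel]
  exact Nat.pos_of_ne_zero Subgroup.index_ne_zero_of_finite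

theorem Setup.exists_gen : ∃ x ∈ (P : Subgroup G), x ≠ 1 ∧ orderOf x = p := by
  obtain ⟨x, hx⟩ : ∃ x : (P : Subgroup G), x ≠ 1 := by
    have : Nontrivial (P : Subgroup G) := by
      have : Finite (P : Subgroup G) :=
        Nat.finite_of_card_ne_zero (by rw [hS.card]; exact (Fact.out : p.Prime).ne_zero)
      exact Finite.one_lt_card_iff_nontrivial.1 (by rw [hS.card]; exact (Fact.out : p.Prime).one_lt)
    exact exists_ne 1
  refine ⟨x, x.2, fun h => hx (Subtype.ext h), ?_⟩
  rw [← Nat.card_zpowers, hS.zpowers_eq x.2 (fun h => hx (Subtype.ext h)), hS.card]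

theorem Setup.complement [Finite G] :
    Cfsg.HasNormalPComplement p (Subgroup.centralizer (P : Set G) : Subgroup G) := by
  refine Fusion.hasNormalPComplement_of_normalizer_le_centralizer (P.subtype hS.le_centralizer)
    fun c _ => Subgroup.mem_centralizer_iff.2 fun a ha => Subtype.ext ?_
  exact Subgroup.mem_centralizer_iff.1 c.2 (a : G) ha

theorem Setup.factorization [Finite G] :
    (Nat.card (Subgroup.centralizer (P : Set G))).factorization p = 1 ∧
      (Nat.card G).factorization p = 1 := by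
  have hp : p.Prime := Fact.out
  have h1 := (P.subtype hS.le_centralizer).card_eq_multiplicity
  rw [Sylow.coe_subtype, Nat.card_congr (Subgroup.subgroupOfEquivOfLe hS.le_centralizer).toEquiv,
    hS.card] at h1
  have h2 := P.card_eq_multiplicity
  rw [hS.card] at h2
  exact ⟨(Nat.pow_right_injective hp.two_le (h1.symm.trans (pow_one p).symm)),
    (Nat.pow_right_injective hp.two_le (h2.symm.trans (pow_one p).symm))⟩

/-- The p'-elements of the centralizer form a subgroup `K` of order prime to `p`, normalised by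
the normalizer, and the centralizer is `P K`. -/
theorem Setup.exists_complement [Finite G] :
    ∃ K : Subgroup G, K ≤ Subgroup.centralizer (P : Set G) ∧ ¬ p ∣ Nat.card K ∧
      (∀ c : G, c ∈ K ↔ c ∈ Subgroup.centralizer (P : Set G) ∧ ¬ p ∣ orderOf c) ∧
      (∀ n ∈ Subgroup.normalizer (P : Set G), ∀ c ∈ K, n * c * n⁻¹ ∈ K) ∧
      Nat.card (Subgroup.centralizer (P : Set G)) = p * Nat.card K ∧
      ∀ c ∈ Subgroup.centralizer (P : Set G), ∃ a ∈ (P : Subgroup G), ∃ b ∈ K, c = b * a := by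
  have hp : p.Prime := Fact.out
  set C := Subgroup.centralizer (P : Set G) with hC
  obtain ⟨N, hN, hc, k, hk⟩ := Fusion.hasNormalPComplement_iff_exists.1 hS.complement
  have hpN : ¬ p ∣ Nat.card N := hp.coprime_iff_not_dvd.1 hc.symm
  have hmem : ∀ c : C, c ∈ N ↔ ¬ p ∣ orderOf c := fun c =>
    ⟨fun h hd => hpN (hd.trans (Subgroup.orderOf_dvd_natCard N h)),
      fun h => BlockThms.mem_of_regular hp ⟨k, hk⟩ h⟩
  have hmem' : ∀ c : G, c ∈ N.map C.subtype ↔ c ∈ C ∧ ¬ p ∣ orderOf c := by
    intro c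
    constructor
    · rintro ⟨a, ha, rfl⟩
      refine ⟨a.2, ?_⟩
      rw [Subgroup.subtype_apply, Subgroup.orderOf_coe]
      exact (hmem a).1 ha
    · rintro ⟨hcC, hc⟩
      exact ⟨⟨c, hcC⟩, (hmem _).2 (by rwa [← Subgroup.orderOf_coe]), rfl⟩
  refine ⟨N.map C.subtype, Subgroup.map_subtype_le _, ?_, hmem', ?_, ?_, ?_⟩
  · rwa [Subgroup.card_map_of_injective C.subtype_injective]
  · intro n hn c hc
    obtain ⟨h1, h2⟩ := (hmem' c).1 hc
    refine (hmem' _).2 ⟨?_, by rwa [Blocks.orderOf_conj']⟩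
    refine Subgroup.mem_centralizer_iff.2 fun v hv => ?_
    have h3 : n⁻¹ * v * n⁻¹⁻¹ ∈ (P : Subgroup G) := hS.conj_mem hv (inv_mem hn)
    rw [inv_inv] at h3
    have h4 := Subgroup.mem_centralizer_iff.1 h1 _ h3
    calc v * (n * c * n⁻¹) = n * ((n⁻¹ * v * n) * c) * n⁻¹ := by group
      _ = n * (c * (n⁻¹ * v * n)) * n⁻¹ := by rw [h4]
      _ = n * c * n⁻¹ * v := by group
  · rw [Subgroup.card_map_of_injective C.subtype_injective]
    have h1 := N.card_mul_index
    rw [hk] at h1
    have h2 := hS.factorization.1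
    rw [← hC, ← h1, Nat.factorization_mul Nat.card_pos.ne' (pow_ne_zero _ hp.ne_zero),
      Finsupp.add_apply, Nat.factorization_eq_zero_of_not_dvd hpN, hp.factorization_pow,
      Finsupp.single_eq_same, zero_add] at h2
    rw [← h1, h2, pow_one, mul_comm]
  · intro c hcC
    refine ⟨pPartOf p c, ?_, pPrimePartOf p c, (hmem' _).2 ⟨?_,
      not_dvd_orderOf_pPrimePartOf hp c⟩, ?_⟩
    · -- `P` is the only Sylow subgroup of its centralizer
      have hn : ((P.subtype hS.le_centralizer : Sylow p C) : Subgroup C).Normal := ⟨fun a ha b => by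
        have e1 : b * a * b⁻¹ = a := Subtype.ext (by
          have := Subgroup.mem_centralizer_iff.1 b.2 (a : G) ha
          show (b : G) * (a : G) * ((b : G))⁻¹ = a
          rw [← this, mul_inv_cancel_right])
        rwa [e1]⟩
      set x : C := ⟨pPartOf p c, pow_mem hcC _⟩
      obtain ⟨j, hj⟩ := orderOf_pPartOf hp c
      obtain ⟨W, hW⟩ := (IsPGroup.of_card (p := p) (n := j) (by
        rw [Nat.card_zpowers, ← Subgroup.orderOf_coe]; exact hj) :
        IsPGroup p (Subgroup.zpowers x)).exists_le_sylow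
      obtain ⟨d, hd⟩ := MulAction.exists_smul_eq C (P.subtype hS.le_centralizer) W
      rw [← hd, Sylow.smul_eq_of_normal] at hW
      exact hW (Subgroup.mem_zpowers x)
    · exact pow_mem hcC _
    · rw [← (commute_pPartOf_pPrimePartOf c).eq, pPartOf_mul_pPrimePartOf hp]

omit hS in
theorem orderOf_dvd_sub_one {P : Sylow p G} (hS : Setup P e) [Finite G] {n : G}
    (hn : n ∈ Subgroup.normalizer (P : Set G)) {x : G} (hx : x ∈ (P : Subgroup G)) (hx1 : x ≠ 1) :
    ∃ r : ℕ, n * x * n⁻¹ = x ^ r := by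
  classical
  have h := hS.conj_mem hx hn
  rw [← hS.zpowers_eq hx hx1, mem_zpowers_iff_mem_range_orderOf] at h
  obtain ⟨r, -, hr⟩ := Finset.mem_image.1 h
  exact ⟨r, hr.symm⟩

/-- A p'-element of the normalizer generating it modulo the centralizer; `e ∣ p - 1`. -/
theorem Setup.exists_y [Finite G] :
    e ∣ p - 1 ∧ ∃ y ∈ Subgroup.normalizer (P : Set G),
      (∀ n ∈ Subgroup.normalizer (P : Set G), ∃ j : ℕ,
        n * (y ^ j)⁻¹ ∈ Subgroup.centralizer (P : Set G)) ∧
      (∀ j : ℕ, y ^ j ∈ Subgroup.centralizer (P : Set G) ↔ e ∣ j) ∧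
      ¬ p ∣ orderOf (y ^ e) := by
  have hp : p.Prime := Fact.out
  set Nz := Subgroup.normalizer (P : Set G) with hNz
  set C := Subgroup.centralizer (P : Set G) with hC
  obtain ⟨x, hx, hx1, hxo⟩ := hS.exists_gen
  have hr : ∀ n : Nz, ∃ r : ℕ, (n : G) * x * (n : G)⁻¹ = x ^ r :=
    fun n => orderOf_dvd_sub_one hS n.2 hx hx1
  choose r hr using hr
  have hpow : ∀ a b : ℕ, x ^ a = x ^ b → (a : ZMod p) = b := fun a b h => by
    rw [ZMod.natCast_eq_natCast_iff, ← hxo]
    exact pow_eq_pow_iff_modEq.1 h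
  let f : Nz →* ZMod p :=
    { toFun := fun n => (r n : ZMod p)
      map_one' := by
        have := hr 1
        simp only [OneMemClass.coe_one, one_mul, inv_one, mul_one] at this
        rw [hpow (r 1) 1 (by rw [pow_one]; exact this.symm), Nat.cast_one]
      map_mul' := fun a b => by
        rw [← Nat.cast_mul]
        refine hpow _ _ ?_
        rw [← hr, pow_mul, ← hr a, conj_pow, ← hr b]
        simp [mul_assoc] }
  set C' := C.subgroupOf Nz with hC'
  let fu : Nz →* (ZMod p)ˣ := f.toHomUnits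
  have hker : fu.ker = C' := by
    ext n
    rw [MonoidHom.mem_ker, hC', Subgroup.mem_subgroupOf]
    constructor
    · intro h
      have h1 : (r n : ZMod p) = ((1 : ℕ) : ZMod p) := by
        rw [Nat.cast_one]; exact congrArg Units.val h
      rw [ZMod.natCast_eq_natCast_iff, ← hxo] at h1
      have h2 := hr n
      rw [pow_eq_pow_iff_modEq.2 h1, pow_one, mul_inv_eq_iff_eq_mul] at h2
      rw [hC, ← hS.centralizer_eq hx hx1]
      exact Subgroup.mem_centralizer_singleton_iff.2 h2
    · intro h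
      apply Units.ext
      show (r n : ZMod p) = 1
      rw [← Nat.cast_one]
      refine hpow _ _ ?_
      rw [pow_one, ← hr n]
      rw [hC, ← hS.centralizer_eq hx hx1, Subgroup.mem_centralizer_singleton_iff] at h
      rw [h, mul_inv_cancel_right]
  have hidx : C'.index = e := hS.rel
  have hrange : Nat.card fu.range = e := by
    rw [← Subgroup.index_ker, hker, hidx]
  have hdvd : e ∣ p - 1 := by
    have h := Subgroup.card_subgroup_dvd_card fu.range
    rwa [hrange, Nat.card_units, Nat.card_zmod] at h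
  refine ⟨hdvd, ?_⟩
  obtain ⟨⟨g, hg⟩, hgen⟩ := IsCyclic.exists_generator (α := fu.range)
  obtain ⟨n₀, hn₀⟩ := MonoidHom.mem_range.1 hg
  have hord : orderOf (fu n₀) = e := by
    have h1 : orderOf (⟨g, hg⟩ : fu.range) = Nat.card fu.range :=
      orderOf_eq_card_of_forall_mem_zpowers hgen
    rw [← Subgroup.orderOf_coe] at h1
    rw [hn₀]
    exact h1.trans hrange
  set y := pPrimePartOf p n₀ with hy
  have hye : fu y = fu n₀ := by
    have h1 : fu (pPartOf p n₀) = 1 := by
      obtain ⟨k, hk⟩ := orderOf_pPartOf hp n₀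
      refine orderOf_eq_one_iff.1 (Nat.eq_one_of_dvd_coprimes ?_
        ((orderOf_map_dvd fu _).trans hk.dvd)
        ((orderOf_dvd_natCard _).trans (by rw [Nat.card_units, Nat.card_zmod])))
      have := hp.two_le
      exact Nat.Coprime.pow_left _ ((hp.coprime_iff_not_dvd).2 fun hd => by
        have := Nat.le_of_dvd (Nat.sub_pos_of_lt hp.one_lt) hd
        omega)
    conv_rhs => rw [← pPartOf_mul_pPrimePartOf hp n₀, map_mul, h1, one_mul]
  have hyG : ∀ j : ℕ, (y : G) ^ j = ((y ^ j : Nz) : G) := fun j => by simp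
  refine ⟨y, y.2, fun n hn => ?_, fun j => ?_, ?_⟩
  · obtain ⟨j, hj⟩ : ∃ j : ℕ, fu ⟨n, hn⟩ = fu n₀ ^ j := by
      have h1 := hgen ⟨fu ⟨n, hn⟩, MonoidHom.mem_range.2 ⟨_, rfl⟩⟩
      rw [mem_zpowers_iff_mem_range_orderOf] at h1
      obtain ⟨j, -, hj⟩ := Finset.mem_image.1 h1
      exact ⟨j, by rw [hn₀]; exact (congrArg Subtype.val hj).symm⟩
    refine ⟨j, ?_⟩
    have h2 : (⟨n, hn⟩ * (y ^ j)⁻¹ : Nz) ∈ fu.ker := by
      rw [MonoidHom.mem_ker, map_mul, map_inv, map_pow, hye, hj, mul_inv_cancel]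
    rw [hker] at h2
    simpa using (Subgroup.mem_subgroupOf.1 h2)
  · rw [hyG, ← Subgroup.mem_subgroupOf, ← hC', ← hker, MonoidHom.mem_ker, map_pow, hye,
      ← orderOf_dvd_iff_pow_eq_one, hord]
  · rw [hyG, Subgroup.orderOf_coe]
    exact fun hd => not_dvd_orderOf_pPrimePartOf hp n₀ (hd.trans (orderOf_pow_dvd e))

end Cfsg.Agent.BlockThms.OrderP
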