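import Mathlib
import Cfsg.Agent.BlockThms.OrderP.Setup
import Cfsg.Agent.BlockThms.SecondMainIdem
import Cfsg.Agent.S0947
import Cfsg.Agent.Invol.SectionInduce
import Cfsg.Agent.Char.Brauer

/-!
# A Sylow subgroup of prime order: lifting functions from `P`
-/

set_option autoImplicit false

namespace Cfsg.Agent.BlockThms.OrderP

open scoped ComplexConjugate
open Cfsg.Agent Cfsg.Agent.Blocks

universe u

variable {G : Type u} [Group G] {p : ℕ}

open scoped Classical in
/-- Elements with the given p-part. -/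
noncomputable def fiber [Fintype G] (p : ℕ) (u : G) : Finset G :=
  Finset.univ.filter fun g => pPartOf p g = u

/-- The average over a p-section. -/
noncomputable def avg [Fintype G] (p : ℕ) (χ : G → ℂ) (u : G) : ℂ :=
  ((fiber p u).card : ℂ)⁻¹ * ∑ g ∈ fiber p u, χ g

/-- Transport to the fixed Sylow subgroup. -/
noncomputable def rep (P : Sylow p G) (u : G) : G :=
  open scoped Classical in
  if h : ∃ c : G, c * u * c⁻¹ ∈ (P : Subgroup G) then h.choose * u * h.choose⁻¹ else 1

/-- The lift of a function on `P`. -/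
noncomputable def lift (P : Sylow p G) (φ : G → ℂ) : G → ℂ := fun g => φ (rep P (pPartOf p g))

/-- A function on `P` vanishing at 1 and invariant under the normalizer. -/
structure Adm (P : Sylow p G) (φ : G → ℂ) : Prop where
  one : φ 1 = 0
  inv : ∀ c ∈ Subgroup.normalizer (P : Set G), ∀ x ∈ (P : Subgroup G), φ (c * x * c⁻¹) = φ x

variable [Fintype G]

theorem mem_fiber {u g : G} : g ∈ fiber p u ↔ pPartOf p g = u := by simp [fiber]

theorem sum_fiber_conj {χ : G → ℂ} (hχ : Cfsg.IsClassFunction G χ) (c u : G) :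
    ∑ g ∈ fiber p (c * u * c⁻¹), χ g = ∑ g ∈ fiber p u, χ g := by
  refine Finset.sum_nbij' (fun g => c⁻¹ * g * c) (fun g => c * g * c⁻¹) ?_ ?_ ?_ ?_ ?_
  · intro g hg
    have hg := mem_fiber.1 hg
    refine mem_fiber.2 ?_
    rw [show c⁻¹ * g * c = c⁻¹ * g * c⁻¹⁻¹ by group, pPartOf_conj (p := p), hg]
    group
  · intro g hg
    exact mem_fiber.2 (by rw [pPartOf_conj (p := p), mem_fiber.1 hg])
  · intro g _; group
  · intro g _; group
  · intro g _
    rw [← hχ g c⁻¹, inv_inv]

theorem avg_conj {χ : G → ℂ} (hχ : Cfsg.IsClassFunction G χ) (c u : G) :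
    avg p χ (c * u * c⁻¹) = avg p χ u := by
  have h := sum_fiber_conj (p := p) (χ := fun _ => (1 : ℂ)) (fun _ _ => rfl) c u
  simp only [Finset.sum_const, nsmul_eq_mul, mul_one] at h
  rw [avg, avg, sum_fiber_conj hχ, h]

variable [Fact p.Prime] {P : Sylow p G}

theorem pPartOf_self {u : G} (hu : ∃ k, orderOf u = p ^ k) : pPartOf p u = u := by
  have hp : p.Prime := Fact.out
  have h := (parts_mul hp (Commute.one_right u) hu
    (by rw [orderOf_one, Nat.dvd_one]; exact hp.ne_one)).1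
  rwa [mul_one] at h

theorem exists_conj_mem (P : Sylow p G) {u : G} (hu : ∃ k, orderOf u = p ^ k) :
    ∃ c : G, c * u * c⁻¹ ∈ (P : Subgroup G) := by
  obtain ⟨k, hk⟩ := hu
  obtain ⟨W, hW⟩ := (IsPGroup.of_card (p := p) (n := k) (by rw [Nat.card_zpowers, hk]) :
    IsPGroup p (Subgroup.zpowers u)).exists_le_sylow
  obtain ⟨c, hc⟩ := MulAction.exists_smul_eq G W P
  exact ⟨c, hc ▸ ⟨u, hW (Subgroup.mem_zpowers u), rfl⟩⟩

theorem exists_orderOf_pow {x : G} (hx : x ∈ (P : Subgroup G)) : ∃ k, orderOf x = p ^ k := by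
  obtain ⟨k, hk⟩ := (IsPGroup.iff_orderOf.1 P.2) ⟨x, hx⟩
  exact ⟨k, by rw [← hk, ← Subgroup.orderOf_coe]⟩

theorem self_mem_fiber {x : G} (hx : x ∈ (P : Subgroup G)) : x ∈ fiber p x :=
  mem_fiber.2 (pPartOf_self (exists_orderOf_pow hx))

variable {e : ℕ} (hS : Setup P e)
include hS

theorem Setup.adm_isConj {φ : G → ℂ} (hφ : Adm P φ) {x y : G} (hx : x ∈ (P : Subgroup G))
    (hy : y ∈ (P : Subgroup G)) (h : IsConj x y) : φ y = φ x := by
  obtain ⟨c, hc⟩ := isConj_iff.1 h
  by_cases hx1 : x = 1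
  · rw [← hc, hx1]; simp
  have hcN := hS.mem_normalizer hx hx1 (c := c⁻¹) (by rw [inv_inv, hc]; exact hy)
  rw [← hc]
  exact hφ.inv c (by simpa using inv_mem hcN) x hx

theorem Setup.lift_apply {φ : G → ℂ} (hφ : Adm P φ) {g y : G} (hy : y ∈ (P : Subgroup G))
    (h : IsConj (pPartOf p g) y) : lift P φ g = φ y := by
  have hmem : ∃ c : G, c * pPartOf p g * c⁻¹ ∈ (P : Subgroup G) :=
    exists_conj_mem P (orderOf_pPartOf Fact.out g)
  have h' : rep P (pPartOf p g) = hmem.choose * pPartOf p g * hmem.choose⁻¹ := by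
    classical
    rw [rep, dif_pos hmem]
  rw [lift, h']
  exact hS.adm_isConj hφ hy hmem.choose_spec
    (h.symm.trans (isConj_iff.2 ⟨hmem.choose, rfl⟩))

theorem Setup.lift_class {φ : G → ℂ} (hφ : Adm P φ) : Cfsg.IsClassFunction G (lift P φ) := by
  intro g h
  obtain ⟨c, hc⟩ := exists_conj_mem P (orderOf_pPartOf (Fact.out : p.Prime) g)
  rw [hS.lift_apply hφ hc (isConj_iff.2 ⟨c, rfl⟩),
    hS.lift_apply hφ hc ((isConj_iff.2 ⟨c * h⁻¹, by
      rw [pPartOf_conj (p := p)]; group⟩))]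

theorem Setup.lift_mem {φ : G → ℂ} (hφ : Adm P φ) {g x : G} (hx : x ∈ (P : Subgroup G))
    (hg : g ∈ fiber p x) : lift P φ g = φ x :=
  hS.lift_apply hφ hx (by rw [mem_fiber.1 hg])

theorem Setup.lift_regular {φ : G → ℂ} (hφ : Adm P φ) {g : G} (hg : ¬ p ∣ orderOf g) :
    lift P φ g = 0 := by
  rw [hS.lift_apply hφ (one_mem _) (by rw [(pPartOf_eq_one_iff Fact.out g).2 hg]), hφ.one]

/-- The members of a section. -/
theorem Setup.sum_fiber_eq {x : G} (hx : x ∈ (P : Subgroup G)) (f : G → ℂ)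
    [Fintype (Subgroup.centralizer ({x} : Set G))] :
    ∑ g ∈ fiber p x, f g = ∑ y ∈ Finset.univ.filter
      (fun y : Subgroup.centralizer ({x} : Set G) => ¬ p ∣ orderOf y), f (x * (y : G)) := by
  have hp : p.Prime := Fact.out
  refine Finset.sum_bij' (fun g hg => (⟨pPrimePartOf p g, Subgroup.mem_centralizer_singleton_iff.2
      (((congrArg (fun t => Commute t (pPrimePartOf p g)) (mem_fiber.1 hg)).mp
        (commute_pPartOf_pPrimePartOf g)).eq.symm)⟩ : Subgroup.centralizer ({x} : Set G)))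
    (fun y _ => x * (y : G)) ?_ ?_ ?_ ?_ ?_
  · intro g _
    refine Finset.mem_filter.2 ⟨Finset.mem_univ _, ?_⟩
    rw [← Subgroup.orderOf_coe]
    exact not_dvd_orderOf_pPrimePartOf hp g
  · intro y hy
    exact mem_fiber.2 (parts_mul hp
      (show Commute x (y : G) from (Subgroup.mem_centralizer_singleton_iff.1 y.2).symm)
      (exists_orderOf_pow hx) (by rw [Subgroup.orderOf_coe]; exact (Finset.mem_filter.1 hy).2)).1
  · intro g hg
    show x * pPrimePartOf p g = g
    conv_rhs => rw [← pPartOf_mul_pPrimePartOf hp g, mem_fiber.1 hg]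
  · intro y hy
    exact Subtype.ext (parts_mul hp
      (show Commute x (y : G) from (Subgroup.mem_centralizer_singleton_iff.1 y.2).symm)
      (exists_orderOf_pow hx) (by rw [Subgroup.orderOf_coe]; exact (Finset.mem_filter.1 hy).2)).2
  · intro g hg
    show f g = f (x * pPrimePartOf p g)
    congr 1
    conv_lhs => rw [← pPartOf_mul_pPrimePartOf hp g, mem_fiber.1 hg]

theorem Setup.card_fiber {x : G} (hx : x ∈ (P : Subgroup G)) (hx1 : x ≠ 1) :
    (fiber p x).card * p = Nat.card (Subgroup.centralizer ({x} : Set G)) := by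
  classical
  have : Fintype (Subgroup.centralizer ({x} : Set G)) := Fintype.ofFinite _
  obtain ⟨K, hKC, -, hKmem, -, hcard, -⟩ := hS.exists_complement
  have e1 := hS.sum_fiber_eq hx (fun _ => (1 : ℂ))
  simp only [Finset.sum_const, nsmul_eq_mul, mul_one] at e1
  have hcx : Nat.card (Subgroup.centralizer ({x} : Set G)) = p * Nat.card K := by
    rw [hS.centralizer_eq hx hx1, hcard]
  rw [Nat.cast_injective e1, hcx, mul_comm]
  congr 1
  rw [← Nat.card_eq_finsetCard]
  exact Nat.card_congr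
    { toFun := fun c => ⟨(c.1 : G), (hKmem _).2 ⟨hS.centralizer_eq hx hx1 ▸ c.1.2, by
        rw [Subgroup.orderOf_coe]; exact (Finset.mem_filter.1 c.2).2⟩⟩
      invFun := fun c => ⟨⟨c.1, (hS.centralizer_eq hx hx1).symm ▸ hKC c.2⟩,
        Finset.mem_filter.2 ⟨Finset.mem_univ _, by
          rw [← Subgroup.orderOf_coe]; exact ((hKmem c.1).1 c.2).2⟩⟩
      left_inv := fun c => rfl
      right_inv := fun c => rfl }

open scoped Classical in
/-- Sums of a lift against a class function. -/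
theorem Setup.sum_lift {φ : G → ℂ} (hφ : Adm P φ) {χ : G → ℂ}
    (hχ : Cfsg.IsClassFunction G χ) :
    (e : ℂ) * (p : ℂ) * ∑ g, lift P φ g * χ g =
      (Nat.card G : ℂ) * ∑ x : (P : Subgroup G), φ x * avg p χ x := by
  have hp : p.Prime := Fact.out
  set H : G → ℂ := fun u => ∑ g ∈ fiber p u, lift P φ g * χ g with hH
  have hl := hS.lift_class hφ
  have hHc : ∀ c u, H (c * u * c⁻¹) = H u := fun c u =>
    sum_fiber_conj (χ := fun g => lift P φ g * χ g) (fun g h => by
      simp only [hl g h, hχ g h]) c u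
  have htot : ∑ g, lift P φ g * χ g = ∑ u, H u := by
    rw [hH]
    exact (Finset.sum_fiberwise Finset.univ (pPartOf p) _).symm.trans
      (Finset.sum_congr rfl fun u _ => Finset.sum_congr (by ext g; simp [mem_fiber]) fun _ _ => rfl)
  set w : G → ℂ := fun u => (Nat.card (Subgroup.centralizer ({u} : Set G)) : ℂ)⁻¹ with hw
  have hwc : ∀ c u, w (c * u * c⁻¹) = w u := fun c u => by
    simp only [hw]
    rw [card_centralizer_conj]
  have hcount : ∀ u, H u ≠ 0 →
      (Nat.card {c : G // c⁻¹ * u * c ∈ (P : Subgroup G)} : ℂ) * w u = (e : ℂ) := by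
    intro u hu
    obtain ⟨g, hg, hg0⟩ := Finset.exists_ne_zero_of_sum_ne_zero hu
    obtain ⟨d, hd⟩ := exists_conj_mem P (orderOf_pPartOf hp g)
    rw [mem_fiber.1 hg] at hd
    have hd1 : d * u * d⁻¹ ≠ 1 := by
      intro h1
      rw [conj_eq_one_iff] at h1
      apply hg0
      rw [hS.lift_regular hφ ((pPartOf_eq_one_iff hp g).1
        ((mem_fiber.1 hg).trans h1)), zero_mul]
    have e1 : Nat.card {c : G // c⁻¹ * u * c ∈ (P : Subgroup G)} =
        Nat.card {c : G // c⁻¹ * (d * u * d⁻¹) * c ∈ (P : Subgroup G)} := by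
      refine Nat.card_congr ((Equiv.mulLeft d).subtypeEquiv fun c => ?_)
      rw [Equiv.coe_mulLeft, show (d * c)⁻¹ * (d * u * d⁻¹) * (d * c) = c⁻¹ * u * c by group]
    have e2 : Nat.card {c : G // c⁻¹ * (d * u * d⁻¹) * c ∈ (P : Subgroup G)} =
        Nat.card (Subgroup.normalizer (P : Set G)) := by
      refine Nat.card_congr (Equiv.subtypeEquivRight fun c => ⟨hS.mem_normalizer hd hd1, fun hc => ?_⟩)
      have := hS.conj_mem hd (inv_mem hc)
      rwa [inv_inv] at this
    have h1 : Nat.card (Subgroup.centralizer ({d * u * d⁻¹} : Set G)) =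
        Nat.card (Subgroup.centralizer ({u} : Set G)) := card_centralizer_conj u d
    rw [e1, e2, hS.card_normalizer, ← hS.centralizer_eq hd hd1, h1, hw]
    push_cast
    exact mul_inv_cancel_right₀ (Nat.cast_ne_zero.2 Nat.card_pos.ne') _
  have hdouble : (Nat.card G : ℂ) * ∑ x : (P : Subgroup G), H x * w x = (e : ℂ) * ∑ u, H u := by
    have h1 : ∀ x : G, ∑ c : G, H (c * x * c⁻¹) * w (c * x * c⁻¹) =
        (Nat.card G : ℂ) * (H x * w x) := fun x => by
      simp [hHc, hwc, Nat.card_eq_fintype_card]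
    rw [Finset.mul_sum, ← Finset.sum_congr rfl fun (x : (P : Subgroup G)) _ => h1 x,
      Finset.sum_comm, Finset.mul_sum]
    have h2 : ∀ c : G, ∑ x : (P : Subgroup G), H (c * x * c⁻¹) * w (c * x * c⁻¹) =
        ∑ u, if c⁻¹ * u * c ∈ (P : Subgroup G) then H u * w u else 0 := by
      intro c
      rw [← Finset.sum_filter]
      refine Finset.sum_nbij' (fun x => c * (x : G) * c⁻¹)
        (fun u => if hu : c⁻¹ * u * c ∈ (P : Subgroup G) then ⟨_, hu⟩ else 1) ?_ ?_ ?_ ?_ ?_
      · intro x _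
        refine Finset.mem_filter.2 ⟨Finset.mem_univ _, ?_⟩
        rw [show c⁻¹ * (c * (x : G) * c⁻¹) * c = x by group]
        exact x.2
      · intro u _; exact Finset.mem_univ _
      · intro x _
        have e1 : c⁻¹ * (c * (x : G) * c⁻¹) * c = x := by group
        rw [dif_pos (by rw [e1]; exact x.2)]
        exact Subtype.ext e1
      · intro u hu
        rw [dif_pos (Finset.mem_filter.1 hu).2]
        show c * (c⁻¹ * u * c) * c⁻¹ = u
        group
      · intro x _; rfl
    rw [Finset.sum_congr rfl fun c _ => h2 c, Finset.sum_comm]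
    refine Finset.sum_congr rfl fun u _ => ?_
    rw [← Finset.sum_filter, Finset.sum_const, nsmul_eq_mul, ← Fintype.card_subtype,
      ← Nat.card_eq_fintype_card]
    by_cases hu : H u = 0
    · simp [hu]
    · rw [mul_left_comm, hcount u hu, mul_comm]
  have hpt : ∀ x : (P : Subgroup G),
      H x * w x = (p : ℂ)⁻¹ * (φ x * avg p χ x) := by
    intro x
    have e1 : H x = φ x * ∑ g ∈ fiber p (x : G), χ g := by
      simp only [hH]
      rw [Finset.mul_sum]
      exact Finset.sum_congr rfl fun g hg => by rw [hS.lift_mem hφ x.2 hg]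
    by_cases hx1 : (x : G) = 1
    · rw [e1, hx1, hφ.one]; simp
    · have hc := hS.card_fiber x.2 hx1
      have hf : ((fiber p (x : G)).card : ℂ) ≠ 0 :=
        Nat.cast_ne_zero.2 (Finset.card_ne_zero.2 ⟨_, self_mem_fiber x.2⟩)
      rw [e1, avg, hw]
      simp only [← hc, Nat.cast_mul, mul_inv]
      field_simp
  rw [Finset.sum_congr rfl fun x _ => hpt x, ← Finset.mul_sum] at hdouble
  rw [htot]
  have hP : (p : ℂ) ≠ 0 := Nat.cast_ne_zero.2 hp.ne_zero
  calc (e : ℂ) * (p : ℂ) * ∑ u, H u = (p : ℂ) * ((e : ℂ) * ∑ u, H u) := by ring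
    _ = _ := by rw [← hdouble]; field_simp

open scoped Classical in
theorem Setup.classInner_lift {φ : G → ℂ} (hφ : Adm P φ) {χ : G → ℂ}
    (hχ : Cfsg.IsClassFunction G χ) :
    (e : ℂ) * (p : ℂ) * Cfsg.classInner (lift P φ) χ =
      ∑ x : (P : Subgroup G), φ x * conj (avg p χ x) := by
  have h := hS.sum_lift hφ (χ := fun g => conj (χ g)) (fun g h => by simp only [hχ g h])
  have hav : ∀ x : G, avg p (fun g => conj (χ g)) x = conj (avg p χ x) := fun x => by
    simp [avg, map_sum]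
  simp only [hav] at h
  rw [Cfsg.classInner, mul_left_comm, h, inv_mul_cancel_left₀ Char.card_ne_zero]

theorem Setup.avg_lift {φ : G → ℂ} (hφ : Adm P φ) {x : G} (hx : x ∈ (P : Subgroup G)) :
    avg p (lift P φ) x = φ x := by
  have hne : ((fiber p x).card : ℂ) ≠ 0 :=
    Nat.cast_ne_zero.2 (Finset.card_ne_zero.2 ⟨x, self_mem_fiber hx⟩)
  rw [avg, Finset.sum_congr rfl fun g hg => hS.lift_mem hφ hx hg, Finset.sum_const, nsmul_eq_mul,
    inv_mul_cancel_left₀ hne]

open scoped Classical in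
theorem Setup.classInner_lift_lift {φ ψ : G → ℂ} (hφ : Adm P φ) (hψ : Adm P ψ) :
    (e : ℂ) * (p : ℂ) * Cfsg.classInner (lift P φ) (lift P ψ) =
      ∑ x : (P : Subgroup G), φ x * conj (ψ x) := by
  rw [hS.classInner_lift hφ (hS.lift_class hψ)]
  exact Finset.sum_congr rfl fun x _ => by rw [hS.avg_lift hψ x.2]

omit hS in
/-- In an elementary group taking p-parts is a homomorphism. -/
theorem pPartOf_mul_elementary {E : Type u} [Group E] [Fintype E] {q : ℕ} (hq : q.Prime)
    (hE : Cfsg.IsElementary q E) (a b : E) :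
    pPartOf p (a * b) = pPartOf p a * pPartOf p b := by
  classical
  have hp : p.Prime := Fact.out
  obtain ⟨x, hx, hco, k, hk⟩ := hE
  set X := Subgroup.zpowers x with hX
  have hXc : X ≤ Subgroup.center E := Subgroup.zpowers_le.2 hx
  have hXn : X.Normal := ⟨fun y hy g => by
    rw [Subgroup.mem_center_iff.1 (hXc hy) g, mul_inv_cancel_right]; exact hy⟩
  have hmem : ∀ u : E, ¬ q ∣ orderOf u → ∀ g : E, g * u = u * g := fun u hu =>
    Subgroup.mem_center_iff.1 (hXc (BlockThms.mem_of_regular hq ⟨k, hk⟩ hu))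
  obtain ⟨Q⟩ : Nonempty (Sylow p E) := inferInstance
  have hcases : (∀ u : E, ¬ p ∣ orderOf u → ∀ g : E, g * u = u * g) ∨
      (∀ u : E, (∃ j, orderOf u = p ^ j) → ∀ g : E, g * u = u * g) := by
    by_cases h2 : q = p
    · left; subst h2; exact hmem
    · right
      rintro u ⟨j, hj⟩
      refine hmem u fun hd => h2 ?_
      rw [hj] at hd
      exact (Nat.prime_dvd_prime_iff_eq hq hp).1 (hq.dvd_of_dvd_pow hd)
  have hQn : (Q : Subgroup E).Normal := by
    rcases hcases with h | h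
    · refine ⟨fun y hy g => ?_⟩
      have hnorm : Subgroup.normalizer (Q : Set E) = ⊤ := by
        rw [← Subgroup.index_eq_one]
        by_contra hne
        obtain ⟨r, hr, hrd⟩ := Nat.exists_prime_and_dvd hne
        have : Fact r.Prime := ⟨hr⟩
        have hr2 : r ≠ p := fun h2 => Q.not_dvd_index
          ((h2 ▸ hrd : p ∣ _).trans (Subgroup.index_dvd_of_le Subgroup.le_normalizer))
        obtain ⟨R⟩ : Nonempty (Sylow r E) := inferInstance
        refine R.not_dvd_index (hrd.trans (Subgroup.index_dvd_of_le fun z hz =>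
          Subgroup.center_le_normalizer _ (Subgroup.mem_center_iff.2 (h z fun hd => hr2 ?_))))
        obtain ⟨j, hj⟩ := (IsPGroup.iff_orderOf.1 R.2) ⟨z, hz⟩
        rw [← Subgroup.orderOf_coe] at hj
        rw [hj] at hd
        exact ((Nat.prime_dvd_prime_iff_eq hp hr).1 (hp.dvd_of_dvd_pow hd)).symm
      exact (Subgroup.mem_normalizer_iff.1 (hnorm ▸ Subgroup.mem_top g) y).1 hy
    · exact ⟨fun y hy g => by
        have hc := h y (by
          obtain ⟨j, hj⟩ := (IsPGroup.iff_orderOf.1 Q.2) ⟨y, hy⟩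
          exact ⟨j, by rw [← hj, ← Subgroup.orderOf_coe]⟩) g
        rw [hc, mul_inv_cancel_right]
        exact hy⟩
  have hinQ : ∀ u : E, (∃ j, orderOf u = p ^ j) → u ∈ (Q : Subgroup E) := by
    rintro u ⟨j, hj⟩
    obtain ⟨W, hW⟩ := (IsPGroup.of_card (p := p) (n := j) (by rw [Nat.card_zpowers, hj]) :
      IsPGroup p (Subgroup.zpowers u)).exists_le_sylow
    obtain ⟨c, hc⟩ := MulAction.exists_smul_eq E Q W
    have hh := hW (Subgroup.mem_zpowers u)
    rwa [← hc, Sylow.smul_eq_of_normal] at hh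
  have hcomm : ∀ u v : E, (∃ j, orderOf u = p ^ j) → ¬ p ∣ orderOf v → u * v = v * u := by
    intro u v hu hv
    rcases hcases with h | h
    · exact h v hv u
    · exact (h u hu v).symm
  obtain ⟨L, hL⟩ := Subgroup.exists_right_complement'_of_coprime (N := (Q : Subgroup E))
    Q.card_coprime_index
  have hLidx : L.index = Nat.card (Q : Subgroup E) := hL.index_eq_card
  have hLodd : ∀ l ∈ L, ¬ p ∣ orderOf l := fun l hl hd => Q.not_dvd_index (by
    rw [hL.symm.index_eq_card]
    exact hd.trans (Subgroup.orderOf_dvd_natCard L hl))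
  have hLn : L.Normal := by
    refine ⟨fun l hl g => ?_⟩
    obtain ⟨⟨⟨q', hq'⟩, ⟨l', hl'⟩⟩, rfl⟩ := hL.2 g
    obtain ⟨j, hj⟩ := (IsPGroup.iff_orderOf.1 Q.2) ⟨q', hq'⟩
    have hm : l' * l * l'⁻¹ ∈ L := mul_mem (mul_mem hl' hl) (inv_mem hl')
    have hc := hcomm q' _ ⟨j, by rw [← hj, ← Subgroup.orderOf_coe]⟩ (hLodd _ hm)
    show q' * l' * l * (q' * l')⁻¹ ∈ L
    rw [show q' * l' * l * (q' * l')⁻¹ = q' * (l' * l * l'⁻¹) * q'⁻¹ by group, hc,
      mul_inv_cancel_right]
    exact hm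
  have hinL : ∀ v : E, ¬ p ∣ orderOf v → v ∈ L := fun v hv => by
    obtain ⟨j, hj⟩ := IsPGroup.iff_card.1 Q.2
    exact BlockThms.mem_of_regular hp ⟨j, by rw [hLidx, hj]⟩ hv
  set a₂ := pPartOf p a
  set b₂ := pPartOf p b
  set a' := pPrimePartOf p a
  set b' := pPrimePartOf p b
  have hab : a * b = a₂ * b₂ * (a' * b') := by
    have h := hcomm b₂ a' (orderOf_pPartOf hp b) (not_dvd_orderOf_pPrimePartOf hp a)
    conv_lhs => rw [← pPartOf_mul_pPrimePartOf hp a, ← pPartOf_mul_pPrimePartOf hp b]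
    show a₂ * a' * (b₂ * b') = _
    rw [mul_assoc a₂, ← mul_assoc a' b₂, ← h]
    group
  have h1 : ∃ j, orderOf (a₂ * b₂) = p ^ j := by
    obtain ⟨j, hj⟩ := (IsPGroup.iff_orderOf.1 Q.2) ⟨_, mul_mem
      (hinQ a₂ (orderOf_pPartOf hp a)) (hinQ b₂ (orderOf_pPartOf hp b))⟩
    exact ⟨j, by rw [← hj, ← Subgroup.orderOf_coe]⟩
  have h2 : ¬ p ∣ orderOf (a' * b') := hLodd _ (mul_mem
    (hinL _ (not_dvd_orderOf_pPrimePartOf hp a))
    (hinL _ (not_dvd_orderOf_pPrimePartOf hp b)))
  have hc : Commute (a₂ * b₂) (a' * b') := hcomm _ _ h1 h2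
  conv_lhs => rw [hab]
  exact (parts_mul hp hc h1 h2).1

/-- A lift is a generalized character as soon as it is one on `P`. -/
theorem Setup.isGeneralized_lift {φ : G → ℂ} (hφ : Adm P φ)
    (hg : Cfsg.IsGeneralizedCharacter (P : Subgroup G) fun x => φ x) :
    Cfsg.IsGeneralizedCharacter G (lift P φ) := by
  classical
  have hp : p.Prime := Fact.out
  refine Char.isGeneralized_of_elementary (hS.lift_class hφ) fun E q hq hE => ?_
  have : Fintype E := Fintype.ofFinite E
  have hco : ∀ a : E, pPartOf p (a : G) = ((pPartOf p a : E) : G) := fun a => by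
    have h := parts_mul hp
      (show Commute ((pPartOf p a : E) : G) ((pPrimePartOf p a : E) : G) from
        congrArg Subtype.val (commute_pPartOf_pPrimePartOf a).eq)
      (by simpa only [Subgroup.orderOf_coe] using orderOf_pPartOf hp a)
      (by simpa only [Subgroup.orderOf_coe] using not_dvd_orderOf_pPrimePartOf hp a)
    rw [← Subgroup.coe_mul, pPartOf_mul_pPrimePartOf hp] at h
    exact h.1
  let π : E →* G := MonoidHom.mk' (fun a => ((pPartOf p a : E) : G)) fun a b => by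
    rw [pPartOf_mul_elementary hq hE]; rfl
  have hπ : IsPGroup p π.range := by
    rw [IsPGroup.iff_orderOf]
    rintro ⟨_, a, rfl⟩
    obtain ⟨j, hj⟩ := orderOf_pPartOf hp a
    exact ⟨j, by rw [← Subgroup.orderOf_coe, ← hj, ← Subgroup.orderOf_coe]; rfl⟩
  obtain ⟨W, hW⟩ := hπ.exists_le_sylow
  obtain ⟨c, hc⟩ := MulAction.exists_smul_eq G W P
  let ι : E →* (P : Subgroup G) := ((MulAut.conj c).toMonoidHom.comp π).codRestrict _ fun a =>
    hc ▸ ⟨π a, hW ⟨a, rfl⟩, rfl⟩
  have hval : (fun a : E => lift P φ (a : G)) = fun a => φ (ι a) := by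
    funext a
    refine hS.lift_apply hφ (ι a).2 (isConj_iff.2 ⟨c, ?_⟩)
    rw [hco]
    rfl
  rw [hval]
  exact Char.isGeneralized_comp ι hg

variable {M : Ideal Cfsg.AlgInt}

/-- Outside the principal block the averages vanish. -/
theorem Setup.avg_eq_zero (hM : Cfsg.IsPModular p M) {x : G} (hx : x ∈ (P : Subgroup G))
    (hx1 : x ≠ 1) {χ : Cfsg.IrrCharacter G} (hχ : χ ∉ Cfsg.principalBlock M G) :
    avg p (χ : G → ℂ) x = 0 := by
  classical
  have hp : p.Prime := Fact.out
  set D := Subgroup.centralizer ({x} : Set G) with hD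
  have : Fintype D := Fintype.ofFinite _
  obtain ⟨k, hk⟩ := exists_orderOf_pow hx
  have hP' : IsPGroup p (Subgroup.zpowers x) :=
    IsPGroup.of_card (n := k) (by rw [Nat.card_zpowers, hk])
  have hH' : ∀ c : G, c ∈ D ↔ ∀ u ∈ Subgroup.zpowers x, u * c = c * u := by
    intro c
    rw [hD, Blocks.mem_centralizer_iff_comm]
    exact ⟨fun h u ⟨i, hi⟩ => hi ▸ ((show Commute x c from h).zpow_left i).eq,
      fun h => h x (Subgroup.mem_zpowers x)⟩
  have hB : Cfsg.IsPBlock M (Cfsg.principalBlock M G) := isPBlock_principalBlock M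
  have hind : Cfsg.IsInducedBlock M D (Cfsg.principalBlock M D) (Cfsg.principalBlock M G) := by
    refine (mem_inducing_iff hM hP' hH' hB (isPBlock_principalBlock M)
      (triv_mem_principalBlock hM)).1 ?_
    rw [inducing_principalBlock hM hP' hH']
    exact triv_mem_principalBlock hM
  set xD : D := ⟨x, Subgroup.mem_centralizer_singleton_iff.2 rfl⟩
  have hpart : pPartOf p xD = xD := pPartOf_self ⟨k, by rw [← Subgroup.orderOf_coe]; exact hk⟩
  have h := BlockThms.sum_blockCoeff_mul_char_eq_zero hM hind xD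
    (by rw [hpart]) hχ
  have hcomp : Cfsg.HasNormalPComplement p D := by
    rw [hD, hS.centralizer_eq hx hx1]; exact hS.complement
  obtain ⟨N, hN, hc, j, hj⟩ := Fusion.hasNormalPComplement_iff_exists.1 hcomp
  set K := Cfsg.pPrimeCore p D with hK
  have hKodd : ¬ p ∣ Nat.card K := Core.not_dvd_card_pPrimeCore
  obtain ⟨i, -, hi⟩ := (Nat.dvd_prime_pow hp).1
    (hj ▸ Subgroup.index_dvd_of_le (Core.le_pPrimeCore (p := p) hc))
  have hKmem : ∀ y : D, y ∈ K ↔ ¬ p ∣ orderOf y := fun y =>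
    ⟨fun hy hd => hKodd (hd.trans (Subgroup.orderOf_dvd_natCard K hy)),
      fun hy => BlockThms.mem_of_regular hp ⟨i, hi⟩ hy⟩
  simp only [blockCoeff_principalBlock_of_complement hM K hKodd ⟨i, hi⟩, ite_mul, zero_mul] at h
  rw [← Finset.sum_filter, ← Finset.mul_sum, mul_eq_zero] at h
  have h' := h.resolve_left (inv_ne_zero (Nat.cast_ne_zero.2 Nat.card_pos.ne'))
  rw [avg, hS.sum_fiber_eq hx]
  refine mul_eq_zero_of_right _ (Eq.trans (Finset.sum_congr ?_ fun y _ => ?_) h')
  · ext y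
    simp [hKmem]
  · exact congrArg (χ : G → ℂ) (Subgroup.mem_centralizer_singleton_iff.1 y.2).symm

open scoped Classical in
/-- In the principal block the values on `P ∖ 1` are the averages. -/
theorem Setup.apply_eq_avg (hM : Cfsg.IsPModular p M) {x : G} (hx : x ∈ (P : Subgroup G))
    (hx1 : x ≠ 1) {χ : Cfsg.IrrCharacter G} (hχ : χ ∈ Cfsg.principalBlock M G) :
    (χ : G → ℂ) x = avg p (χ : G → ℂ) x := by
  have hp : p.Prime := Fact.out
  set φ : G → ℂ := fun g => if g ∈ (P : Subgroup G) ∧ IsConj x g then 1 else 0 with hφdef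
  have hφ : Adm P φ := by
    refine ⟨?_, fun c hc g hg => ?_⟩
    · simp only [hφdef]
      rw [if_neg]
      exact fun h => hx1 (by simpa using h.2)
    · simp only [hφdef]
      refine if_congr ⟨fun h => ⟨hg, h.2.trans (isConj_iff.2 ⟨c, rfl⟩).symm⟩,
        fun h => ⟨hS.conj_mem hg hc, h.2.trans (isConj_iff.2 ⟨c, rfl⟩)⟩⟩ rfl rfl
  set O := Finset.univ.filter (fun y : (P : Subgroup G) => IsConj x (y : G)) with hO
  have hsum : ∀ f : ↥(P : Subgroup G) → ℂ, ∑ y : (P : Subgroup G), φ y * f y = ∑ y ∈ O, f y := by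
    intro f
    rw [hO, Finset.sum_filter]
    refine Finset.sum_congr rfl fun y _ => ?_
    simp only [hφdef, SetLike.coe_mem, true_and, ite_mul, one_mul, zero_mul]
  have hOcard : O.card = e := by
    let g : Subgroup.normalizer (P : Set G) → (P : Subgroup G) := fun c =>
      ⟨(c : G) * x * (c : G)⁻¹, hS.conj_mem hx c.2⟩
    have hmaps : ∀ c ∈ (Finset.univ : Finset (Subgroup.normalizer (P : Set G))), g c ∈ O :=
      fun c _ => Finset.mem_filter.2 ⟨Finset.mem_univ _, isConj_iff.2 ⟨c, rfl⟩⟩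
    have h1 := Finset.card_eq_sum_card_fiberwise hmaps
    have h2 : ∀ y ∈ O, ((Finset.univ : Finset (Subgroup.normalizer (P : Set G))).filter
        fun c => g c = y).card = Nat.card (Subgroup.centralizer (P : Set G)) := by
      intro y hy
      obtain ⟨c₀, hc₀⟩ := isConj_iff.1 (Finset.mem_filter.1 hy).2
      have hc₀N : c₀ ∈ Subgroup.normalizer (P : Set G) := by
        have := hS.mem_normalizer hx hx1 (c := c₀⁻¹) (by rw [inv_inv, hc₀]; exact y.2)
        simpa using inv_mem this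
      rw [← Nat.card_eq_finsetCard, ← hS.centralizer_eq hx hx1]
      exact Nat.card_congr
        { toFun := fun c => ⟨c₀⁻¹ * (c.1 : G), Subgroup.mem_centralizer_singleton_iff.2 (by
            have h3 : (c.1 : G) * x * (c.1 : G)⁻¹ = c₀ * x * c₀⁻¹ :=
              (congrArg Subtype.val (Finset.mem_filter.1 c.2).2).trans hc₀.symm
            calc c₀⁻¹ * (c.1 : G) * x = c₀⁻¹ * ((c.1 : G) * x * (c.1 : G)⁻¹) * c.1 := by group
              _ = x * (c₀⁻¹ * c.1) := by rw [h3]; group)⟩
          invFun := fun d => ⟨⟨c₀ * d.1, mul_mem hc₀N (Subgroup.centralizer_le_normalizer _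
            (hS.centralizer_eq hx hx1 ▸ d.2))⟩, Finset.mem_filter.2 ⟨Finset.mem_univ _,
            Subtype.ext (by
              show c₀ * d.1 * x * (c₀ * d.1)⁻¹ = (y : G)
              rw [← hc₀, mul_assoc c₀, Subgroup.mem_centralizer_singleton_iff.1 d.2]
              group)⟩⟩
          left_inv := fun c => Subtype.ext (Subtype.ext (mul_inv_cancel_left _ _))
          right_inv := fun d => Subtype.ext (inv_mul_cancel_left _ _) }
    rw [Finset.sum_congr rfl h2, Finset.sum_const, smul_eq_mul, Finset.card_univ,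
      ← Nat.card_eq_fintype_card, hS.card_normalizer] at h1
    exact (Nat.eq_of_mul_eq_mul_right Nat.card_pos h1).symm
  have hP : (p : ℂ) ≠ 0 := Nat.cast_ne_zero.2 hp.ne_zero
  have he : (e : ℂ) ≠ 0 := Nat.cast_ne_zero.2 hS.e_pos.ne'
  set q := (p : ℂ) with hq
  have hconst : ∀ (ψ : G → ℂ), Cfsg.IsClassFunction G ψ → ∀ y ∈ O,
      conj (avg p ψ (y : G)) = conj (avg p ψ x) := by
    intro ψ hψ y hy
    obtain ⟨c, hc⟩ := isConj_iff.1 (Finset.mem_filter.1 hy).2
    rw [← hc, avg_conj hψ]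
  have hcoef : ∀ ψ : Cfsg.IrrCharacter G,
      q * Cfsg.classInner (lift P φ) (ψ : G → ℂ) = conj (avg p (ψ : G → ℂ) x) := by
    intro ψ
    have h := hS.classInner_lift hφ (Char.isClassFunction_of_isIrr ψ.2)
    rw [hsum (fun y => conj (avg p (ψ : G → ℂ) (y : G))),
      Finset.sum_congr rfl (hconst _ (Char.isClassFunction_of_isIrr ψ.2)), Finset.sum_const,
      hOcard, nsmul_eq_mul] at h
    exact mul_left_cancel₀ he (by rw [← mul_assoc]; exact h)
  have hnorm : q * Cfsg.classInner (lift P φ) (lift P φ) = 1 := by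
    have h := hS.classInner_lift_lift hφ hφ
    rw [hsum (fun y => conj (φ y)), Finset.sum_congr rfl (g := fun _ => (1 : ℂ)) (fun y hy => by
      simp only [hφdef]; rw [if_pos ⟨y.2, (Finset.mem_filter.1 hy).2⟩, map_one]), Finset.sum_const, hOcard, nsmul_eq_mul,
      mul_one] at h
    exact mul_left_cancel₀ he (by rw [← mul_assoc, mul_one]; exact h)
  have hval : lift P φ x = 1 := by
    rw [hS.lift_mem hφ hx (self_mem_fiber hx)]
    simp only [hφdef]
    rw [if_pos ⟨hx, IsConj.refl x⟩]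
  set S := (Set.toFinite (Cfsg.principalBlock M G)).toFinset with hSdef
  have hout : ∀ ψ, ψ ∉ S → avg p (ψ : G → ℂ) x = 0 := fun ψ hψ =>
    hS.avg_eq_zero hM hx hx1 fun h => hψ ((Set.toFinite _).mem_toFinset.2 h)
  have hA : ∑ ψ ∈ S, conj (avg p (ψ : G → ℂ) x) * (ψ : G → ℂ) x = q := by
    rw [Finset.sum_subset (Finset.subset_univ S) fun ψ _ hψ => by rw [hout ψ hψ, map_zero,
      zero_mul]]
    simp only [← hcoef, mul_assoc, ← Finset.mul_sum, Invol.apply_eq_sum (hS.lift_class hφ), hval,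
      mul_one]
  have hB : ∑ ψ ∈ S, conj (avg p (ψ : G → ℂ) x) * avg p (ψ : G → ℂ) x = q := by
    rw [Finset.sum_subset (Finset.subset_univ S) fun ψ _ hψ => by rw [hout ψ hψ, map_zero,
      zero_mul]]
    have h := Char.classInner_eq_sum (f' := lift P φ) (hS.lift_class hφ)
    have e1 : ∀ ψ : Cfsg.IrrCharacter G, conj (avg p (ψ : G → ℂ) x) * avg p (ψ : G → ℂ) x =
        q * (q * (Cfsg.classInner (lift P φ) (ψ : G → ℂ) *
          Cfsg.classInner (ψ : G → ℂ) (lift P φ))) := fun ψ => by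
      have e2 : avg p (ψ : G → ℂ) x = q * Cfsg.classInner (ψ : G → ℂ) (lift P φ) := by
        have h0 := congrArg conj (hcoef ψ)
        rw [map_mul, Char.classInner_conj_symm, Complex.conj_conj, hq, Complex.conj_natCast] at h0
        exact h0.symm
      conv_lhs => rw [← hcoef ψ, e2]
      ring
    rw [Finset.sum_congr rfl fun ψ _ => e1 ψ, ← Finset.mul_sum, ← Finset.mul_sum, ← h, hnorm,
      mul_one]
  have hC : ∑ ψ ∈ S, (ψ : G → ℂ) x * conj ((ψ : G → ℂ) x) = q := by
    have hcomp : Cfsg.HasNormalPComplement p (Subgroup.centralizer ({x} : Set G) : Subgroup G) := by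
      rw [hS.centralizer_eq hx hx1]; exact hS.complement
    obtain ⟨N, hN, hc, j, hj⟩ := Fusion.hasNormalPComplement_iff_exists.1 hcomp
    obtain ⟨i, -, hi⟩ := (Nat.dvd_prime_pow hp).1
      (hj ▸ Subgroup.index_dvd_of_le (Core.le_pPrimeCore (p := p) hc))
    have h := (Cfsg.Agent.S0947.result p M hM x (exists_orderOf_pow hx) hx1 1
      (by rw [orderOf_one, Nat.dvd_one]; exact hp.ne_one)).2 ⟨i, hi⟩
    rw [OneMemClass.coe_one, mul_one, finsum_mem_eq_finite_toFinset_sum _ (Set.toFinite _)] at h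
    have hfac : (Nat.card (Subgroup.centralizer ({x} : Set G))).factorization p = 1 := by
      rw [hS.centralizer_eq hx hx1]; exact hS.factorization.1
    rw [hfac, pow_one] at h
    have h' := congrArg (fun r : ℝ => (r : ℂ)) h
    simp only [Complex.ofReal_sum, Complex.ofReal_natCast] at h'
    rw [hq, ← h']
    exact Finset.sum_congr rfl fun ψ _ => by rw [Complex.mul_conj, Complex.normSq_eq_norm_sq]
  have hA' : ∑ ψ ∈ S, avg p (ψ : G → ℂ) x * conj ((ψ : G → ℂ) x) = q := by
    have := congrArg conj hA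
    rw [map_sum, hq, Complex.conj_natCast] at this
    rw [hq, ← this]
    exact Finset.sum_congr rfl fun ψ _ => by rw [map_mul, Complex.conj_conj]
  have hzero : ∑ ψ ∈ S, ((Complex.normSq ((ψ : G → ℂ) x - avg p (ψ : G → ℂ) x) : ℝ) : ℂ) = 0 := by
    have e1 : ∀ ψ : Cfsg.IrrCharacter G,
        ((Complex.normSq ((ψ : G → ℂ) x - avg p (ψ : G → ℂ) x) : ℝ) : ℂ) =
          (ψ : G → ℂ) x * conj ((ψ : G → ℂ) x) - avg p (ψ : G → ℂ) x * conj ((ψ : G → ℂ) x) -
            conj (avg p (ψ : G → ℂ) x) * (ψ : G → ℂ) x +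
            conj (avg p (ψ : G → ℂ) x) * avg p (ψ : G → ℂ) x := fun ψ => by
      rw [← Complex.mul_conj, map_sub]
      ring
    rw [Finset.sum_congr rfl fun ψ _ => e1 ψ, Finset.sum_add_distrib, Finset.sum_sub_distrib,
      Finset.sum_sub_distrib, hC, hA', hA, hB]
    ring
  rw [← Complex.ofReal_sum, Complex.ofReal_eq_zero] at hzero
  exact sub_eq_zero.1 (Complex.normSq_eq_zero.1
    ((Finset.sum_eq_zero_iff_of_nonneg fun ψ _ => Complex.normSq_nonneg _).1 hzero χ
      ((Set.toFinite _).mem_toFinset.2 hχ)))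

end Cfsg.Agent.BlockThms.OrderP
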