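import Mathlib
import Cfsg.Agent.BlockThms.OrderP.Lift
import Cfsg.Agent.Char.Gen

/-!
# Coordinates on a subgroup of order `p` and the functions `e - ∑ ψ(a u t)`
-/

set_option autoImplicit false

namespace Cfsg.Agent.BlockThms.OrderP

open scoped ComplexConjugate
open Cfsg.Agent Cfsg.Agent.Blocks

universe u

variable {p : ℕ} [Fact p.Prime]

/-- The primitive additive character modulo `p`. -/
noncomputable abbrev psi (p : ℕ) [Fact p.Prime] : AddChar (ZMod p) ℂ := ZMod.stdAddChar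

theorem sum_psi (b : ZMod p) : ∑ t : ZMod p, psi p (b * t) = if b = 0 then (p : ℂ) else 0 := by
  have h := AddChar.sum_mulShift b (ZMod.isPrimitive_stdAddChar p)
  rw [ZMod.card] at h
  simp only [mul_comm b]
  rw [h]
  split_ifs <;> simp

/-- The function `e - ∑ ψ(a u t)`. -/
noncomputable def theta (U : Finset (ZMod p)) (a t : ZMod p) : ℂ :=
  ∑ u ∈ U, (1 - psi p (a * u * t))

theorem theta_zero (U : Finset (ZMod p)) (a : ZMod p) : theta U a 0 = 0 := by
  simp [theta]

/-- The data of a subgroup of units. -/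
structure UnitSet (U : Finset (ZMod p)) : Prop where
  ne_zero : ∀ u ∈ U, u ≠ 0
  one : (1 : ZMod p) ∈ U
  mul : ∀ u ∈ U, ∀ v ∈ U, u * v ∈ U

variable {U : Finset (ZMod p)}

theorem UnitSet.theta_mul (hU : UnitSet U) (a : ZMod p) {v : ZMod p} (hv : v ∈ U) (t : ZMod p) :
    theta U a (v * t) = theta U a t := by
  classical
  have hinj : Function.Injective fun u : ZMod p => u * v := mul_left_injective₀ (hU.ne_zero v hv)
  have himg : U.image (fun u => u * v) = U := Finset.eq_of_subset_of_card_le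
    (fun w hw => by
      obtain ⟨u, hu, rfl⟩ := Finset.mem_image.1 hw
      exact hU.mul u hu v hv)
    (Finset.card_image_of_injective U hinj).ge
  unfold theta
  conv_rhs => rw [← himg, Finset.sum_image fun a _ b _ h => hinj h]
  refine Finset.sum_congr rfl fun u _ => ?_
  congr 2
  ring

theorem sum_theta (hU : UnitSet U) {a : ZMod p} (ha : a ≠ 0) :
    ∑ t, theta U a t = (p : ℂ) * U.card := by
  unfold theta
  rw [Finset.sum_comm, Finset.sum_congr rfl (g := fun _ => (p : ℂ)) fun u hu => ?_,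
    Finset.sum_const, nsmul_eq_mul, mul_comm]
  rw [Finset.sum_sub_distrib, sum_psi, if_neg (mul_ne_zero ha (hU.ne_zero u hu)), sub_zero]
  simp [ZMod.card]

theorem sum_theta_mul_conj (hU : UnitSet U) {a b : ZMod p} (ha : a ≠ 0) (hb : b ≠ 0) :
    ∑ t, theta U a t * conj (theta U b t) =
      (p : ℂ) * ((U.card : ℂ) * U.card + ∑ u ∈ U, ∑ v ∈ U, if a * u = b * v then (1 : ℂ) else 0) := by
  classical
  have key : ∀ u ∈ U, ∀ v ∈ U, ∑ t, (1 - psi p (a * u * t)) * conj (1 - psi p (b * v * t)) =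
      (p : ℂ) * (1 + if a * u = b * v then (1 : ℂ) else 0) := by
    intro u hu v hv
    have e1 : ∀ t, (1 - psi p (a * u * t)) * conj (1 - psi p (b * v * t)) =
        1 - psi p (a * u * t) - psi p (-(b * v) * t) + psi p ((a * u - b * v) * t) := by
      intro t
      rw [map_sub, map_one, ← AddChar.map_neg_eq_conj, show (a * u - b * v) * t =
        a * u * t + -(b * v * t) by ring, AddChar.map_add_eq_mul, neg_mul]
      ring
    rw [Finset.sum_congr rfl fun t _ => e1 t, Finset.sum_add_distrib, Finset.sum_sub_distrib,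
      Finset.sum_sub_distrib, sum_psi, sum_psi, sum_psi,
      if_neg (mul_ne_zero ha (hU.ne_zero u hu)),
      if_neg (neg_ne_zero.2 (mul_ne_zero hb (hU.ne_zero v hv)))]
    simp only [sub_eq_zero, Finset.sum_const, Finset.card_univ, ZMod.card, nsmul_eq_mul, mul_one,
      sub_zero]
    split_ifs <;> ring
  unfold theta
  simp only [map_sum, Finset.sum_mul_sum]
  rw [Finset.sum_comm, mul_add, Finset.mul_sum]
  have : ∀ u ∈ U, ∑ t, ∑ v ∈ U, (1 - psi p (a * u * t)) * conj (1 - psi p (b * v * t)) =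
      (p : ℂ) * U.card + (p : ℂ) * ∑ v ∈ U, if a * u = b * v then (1 : ℂ) else 0 := by
    intro u hu
    rw [Finset.sum_comm, Finset.sum_congr rfl fun v hv => key u hu v hv, ← Finset.mul_sum,
      Finset.sum_add_distrib, mul_add, Finset.sum_const, nsmul_eq_mul, mul_one]
  rw [Finset.sum_congr rfl this, Finset.sum_add_distrib, Finset.sum_const, nsmul_eq_mul]
  ring

theorem pow_card_eq_one (hU : UnitSet U) {u : ZMod p} (hu : u ∈ U) : u ^ U.card = 1 := by
  classical
  have hinj : Function.Injective fun w : ZMod p => w * u := mul_left_injective₀ (hU.ne_zero u hu)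
  have himg : U.image (fun w => w * u) = U := Finset.eq_of_subset_of_card_le
    (fun w hw => by
      obtain ⟨v, hv, rfl⟩ := Finset.mem_image.1 hw
      exact hU.mul v hv u hu)
    (Finset.card_image_of_injective U hinj).ge
  have h : ∏ w ∈ U, w * u = ∏ w ∈ U, w := by
    conv_rhs => rw [← himg, Finset.prod_image fun a _ b _ h => hinj h]
  rw [Finset.prod_mul_distrib, Finset.prod_const] at h
  exact (mul_eq_left₀ (Finset.prod_ne_zero_iff.2 hU.ne_zero)).1 h

/-- Representatives of the nonzero orbits. -/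
theorem exists_reps (hU : UnitSet U) {f : ℕ} (hf : U.card * f = p - 1) :
    ∃ a : Fin f → ZMod p, (∀ i, a i ≠ 0) ∧
      (∀ i j, ∀ u ∈ U, ∀ v ∈ U, a i * u = a j * v → i = j ∧ u = v) ∧
      ∀ F : ZMod p → ℂ, ∑ i, ∑ u ∈ U, F (a i * u) = ∑ b ∈ Finset.univ.erase 0, F b := by
  classical
  have hp : p.Prime := Fact.out
  obtain ⟨g, hg⟩ := IsCyclic.exists_ofOrder_eq_natCard (α := (ZMod p)ˣ)
  rw [Nat.card_units, Nat.card_zmod] at hg
  have hinj : ∀ i j : Fin f, ∀ u ∈ U, ∀ v ∈ U,
      ((g : ZMod p) ^ (i : ℕ)) * u = ((g : ZMod p) ^ (j : ℕ)) * v → i = j ∧ u = v := by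
    intro i j u hu v hv h
    have hpow := congrArg (· ^ U.card) h
    simp only [mul_pow, pow_card_eq_one hU hu, pow_card_eq_one hU hv, mul_one, ← pow_mul] at hpow
    rw [← Units.val_pow_eq_pow_val, ← Units.val_pow_eq_pow_val] at hpow
    have hb : ∀ k : Fin f, (k : ℕ) * U.card < orderOf g := fun k => by
      rw [hg, ← hf, mul_comm U.card]
      exact Nat.mul_lt_mul_of_pos_right k.2 (Finset.card_pos.2 ⟨1, hU.one⟩)
    have hij := pow_injOn_Iio_orderOf (hb i) (hb j) (Units.ext hpow)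
    have e : i = j := Fin.ext (Nat.eq_of_mul_eq_mul_right (Finset.card_pos.2 ⟨1, hU.one⟩) hij)
    subst e
    exact ⟨rfl, mul_left_cancel₀ (pow_ne_zero _ g.ne_zero) h⟩
  refine ⟨fun i => (g : ZMod p) ^ (i : ℕ), fun i => pow_ne_zero _ g.ne_zero, hinj, fun F => ?_⟩
  have himg : ((Finset.univ : Finset (Fin f)) ×ˢ U).image
      (fun iu => (g : ZMod p) ^ (iu.1 : ℕ) * iu.2) = Finset.univ.erase 0 := by
    refine Finset.eq_of_subset_of_card_le (fun w hw => ?_) ?_
    · obtain ⟨⟨i, u⟩, hiu, rfl⟩ := Finset.mem_image.1 hw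
      exact Finset.mem_erase.2 ⟨mul_ne_zero (pow_ne_zero _ g.ne_zero)
        (hU.ne_zero u (Finset.mem_product.1 hiu).2), Finset.mem_univ _⟩
    · rw [Finset.card_image_of_injOn, Finset.card_erase_of_mem (Finset.mem_univ _),
        Finset.card_univ, ZMod.card, Finset.card_product, Finset.card_univ, Fintype.card_fin,
        mul_comm, hf]
      rintro ⟨i, u⟩ hiu ⟨j, v⟩ hjv h
      obtain ⟨rfl, rfl⟩ := hinj i j u (Finset.mem_product.1 hiu).2 v (Finset.mem_product.1 hjv).2 h
      rfl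
  rw [← himg, Finset.sum_image, Finset.sum_product]
  rintro ⟨i, u⟩ hiu ⟨j, v⟩ hjv h
  obtain ⟨rfl, rfl⟩ := hinj i j u (Finset.mem_product.1 hiu).2 v (Finset.mem_product.1 hjv).2 h
  rfl

theorem sum_theta_reps (hU : UnitSet U) {f : ℕ} (hf : U.card * f = p - 1) {a : Fin f → ZMod p}
    (ha : ∀ F : ZMod p → ℂ, ∑ i, ∑ u ∈ U, F (a i * u) = ∑ b ∈ Finset.univ.erase 0, F b)
    (t : ZMod p) : ∑ i, theta U (a i) t = if t = 0 then 0 else (p : ℂ) := by
  have h := ha fun b => 1 - psi p (b * t)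
  unfold theta
  rw [h, Finset.sum_erase _ (by simp), Finset.sum_sub_distrib]
  simp only [mul_comm _ t, sum_psi, Finset.sum_const, Finset.card_univ, ZMod.card, nsmul_eq_mul,
    mul_one]
  split_ifs <;> simp

variable {G : Type u} [Group G]

/-- The element with a given coordinate. -/
def pw (x : G) (t : ZMod p) : G := x ^ t.val

theorem pw_natCast {x : G} (hx : orderOf x = p) (n : ℕ) : pw x (n : ZMod p) = x ^ n := by
  have h := pow_mod_orderOf x n
  rw [hx] at h
  rw [pw, ZMod.val_natCast, h]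

theorem pw_add {x : G} (hx : orderOf x = p) (a b : ZMod p) : pw x (a + b) = pw x a * pw x b := by
  rw [← ZMod.natCast_zmod_val a, ← ZMod.natCast_zmod_val b, ← Nat.cast_add, pw_natCast hx,
    pw_natCast hx, pw_natCast hx, pow_add]

theorem pw_injective {x : G} (hx : orderOf x = p) : Function.Injective (pw (p := p) x) := by
  intro a b h
  have h1 := pow_injOn_Iio_orderOf (x := x) (hx.symm ▸ ZMod.val_lt a : a.val < orderOf x)
    (hx.symm ▸ ZMod.val_lt b : b.val < orderOf x) h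
  exact ZMod.val_injective p h1

/-- The coordinate. -/
noncomputable def lg (x : G) : G → ZMod p := Function.invFun (pw x)

theorem lg_pw {x : G} (hx : orderOf x = p) (t : ZMod p) : lg x (pw x t) = t :=
  Function.leftInverse_invFun (pw_injective hx) t

variable {P : Sylow p G} {e : ℕ} (hS : Setup P e)
include hS

theorem Setup.exists_pw [Finite G] {x : G} (hx : x ∈ (P : Subgroup G)) (hxo : orderOf x = p)
    {u : G} (hu : u ∈ (P : Subgroup G)) : ∃ t : ZMod p, pw x t = u := by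
  classical
  have hx1 : x ≠ 1 := fun h => (Fact.out : p.Prime).ne_one (by rw [← hxo, h, orderOf_one])
  rw [← hS.zpowers_eq hx hx1, mem_zpowers_iff_mem_range_orderOf] at hu
  obtain ⟨n, -, rfl⟩ := Finset.mem_image.1 hu
  exact ⟨n, pw_natCast hxo n⟩

/-- The automizer as a set of units. -/
theorem Setup.exists_unitSet [Finite G] {x : G} (hx : x ∈ (P : Subgroup G)) (hxo : orderOf x = p) :
    e ∣ p - 1 ∧ ∃ U : Finset (ZMod p), UnitSet U ∧ U.card = e ∧
      (∀ n ∈ Subgroup.normalizer (P : Set G), ∃ v ∈ U, ∀ t : ZMod p,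
        n * pw x t * n⁻¹ = pw x (v * t)) ∧
      ∀ v ∈ U, ∀ t : ZMod p, ∃ c : G, c * pw x t * c⁻¹ = pw x (v * t) := by
  classical
  have hx1 : x ≠ 1 := fun h => (Fact.out : p.Prime).ne_one (by rw [← hxo, h, orderOf_one])
  obtain ⟨hdvd, y, hy, hgen, hye, -⟩ := hS.exists_y
  obtain ⟨r, hr⟩ := orderOf_dvd_sub_one hS hy hx hx1
  have hj : ∀ j : ℕ, y ^ j * x * (y ^ j)⁻¹ = pw x ((r : ZMod p) ^ j) := by
    intro j
    induction j with
    | zero =>
      rw [pow_zero, pow_zero, inv_one, one_mul, mul_one, ← Nat.cast_one, pw_natCast hxo, pow_one]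
    | succ j ih =>
      rw [← Nat.cast_pow, pw_natCast hxo] at ih ⊢
      rw [pow_succ', show y * y ^ j * x * (y * y ^ j)⁻¹ = y * (y ^ j * x * (y ^ j)⁻¹) * y⁻¹ by group,
        ih, ← conj_pow, hr, ← pow_mul]
      congr 1
      ring
  have h1iff : ∀ j : ℕ, (r : ZMod p) ^ j = 1 ↔ e ∣ j := by
    intro j
    rw [← hye, ← hS.centralizer_eq hx hx1, Subgroup.mem_centralizer_singleton_iff,
      ← mul_inv_eq_iff_eq_mul, hj]
    constructor
    · intro h
      rw [h, ← Nat.cast_one, pw_natCast hxo, pow_one]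
    · intro h
      refine pw_injective hxo ?_
      rw [h, ← Nat.cast_one, pw_natCast hxo, pow_one]
  have hord : orderOf (r : ZMod p) = e := Nat.dvd_antisymm
    (orderOf_dvd_of_pow_eq_one ((h1iff e).2 dvd_rfl)) ((h1iff _).1 (pow_orderOf_eq_one _))
  have he := hS.e_pos
  set U := (Finset.range e).image fun j => (r : ZMod p) ^ j with hU
  have hmem : ∀ j : ℕ, (r : ZMod p) ^ j ∈ U := fun j => Finset.mem_image.2
    ⟨j % e, Finset.mem_range.2 (Nat.mod_lt _ he), by rw [← hord]; exact pow_mod_orderOf _ j⟩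
  refine ⟨hdvd, U, ⟨?_, by simpa using hmem 0, ?_⟩, ?_, ?_, ?_⟩
  · intro u hu h0
    obtain ⟨j, -, hju⟩ := Finset.mem_image.1 hu
    rw [h0] at hju
    have h : (r : ZMod p) ^ (j * e) = 1 := (h1iff _).2 (dvd_mul_left _ _)
    rw [pow_mul, hju, zero_pow he.ne'] at h
    exact zero_ne_one h
  · intro u hu v hv
    obtain ⟨i, -, rfl⟩ := Finset.mem_image.1 hu
    obtain ⟨j, -, rfl⟩ := Finset.mem_image.1 hv
    rw [← pow_add]
    exact hmem _
  · rw [hU, Finset.card_image_of_injOn, Finset.card_range]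
    intro i hi j hj' h
    exact pow_injOn_Iio_orderOf (by rw [hord]; exact Finset.mem_range.1 hi)
      (by rw [hord]; exact Finset.mem_range.1 hj') h
  · intro n hn
    obtain ⟨j, hjn⟩ := hgen n hn
    refine ⟨_, hmem j, fun t => ?_⟩
    have hc := (Subgroup.mem_centralizer_iff.1 hjn)
    obtain ⟨t, rfl⟩ : ∃ m : ℕ, (m : ZMod p) = t := ⟨t.val, ZMod.natCast_zmod_val t⟩
    rw [pw_natCast hxo, ← Nat.cast_pow, ← Nat.cast_mul, pw_natCast hxo, pow_mul,
      ← pw_natCast hxo (r ^ j), Nat.cast_pow, ← hj, conj_pow]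
    have hc' := hc _ (pow_mem (hS.conj_mem hx (pow_mem hy j)) t)
    rw [conj_pow] at hc'
    calc n * x ^ t * n⁻¹ = (n * (y ^ j)⁻¹) * (y ^ j * x ^ t * (y ^ j)⁻¹) * (n * (y ^ j)⁻¹)⁻¹ := by
          group
      _ = (y ^ j * x ^ t * (y ^ j)⁻¹) * (n * (y ^ j)⁻¹) * (n * (y ^ j)⁻¹)⁻¹ := by rw [hc']
      _ = y ^ j * x ^ t * (y ^ j)⁻¹ := mul_inv_cancel_right _ _
  · intro v hv t
    obtain ⟨j, -, rfl⟩ := Finset.mem_image.1 hv
    refine ⟨y ^ j, ?_⟩
    obtain ⟨t, rfl⟩ : ∃ m : ℕ, (m : ZMod p) = t := ⟨t.val, ZMod.natCast_zmod_val t⟩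
    rw [pw_natCast hxo, ← Nat.cast_pow, ← Nat.cast_mul, pw_natCast hxo, pow_mul,
      ← pw_natCast hxo (r ^ j), Nat.cast_pow, ← hj, conj_pow]

variable [Finite G] {x : G} (hx : x ∈ (P : Subgroup G)) (hxo : orderOf x = p)
  (hU : UnitSet U)
  (hN : ∀ n ∈ Subgroup.normalizer (P : Set G), ∃ v ∈ U, ∀ t : ZMod p,
    n * pw x t * n⁻¹ = pw x (v * t))
include hx hxo hU hN

/-- The functions on `P`. -/
theorem Setup.adm_theta (a : ZMod p) : Adm P fun g => theta U a (lg x g) := by
  constructor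
  · have h : (1 : G) = pw x (0 : ZMod p) := by simp [pw]
    show theta U a (lg x 1) = 0
    rw [h, lg_pw hxo, theta_zero]
  · intro c hc u hu
    obtain ⟨t, rfl⟩ := hS.exists_pw hx hxo hu
    obtain ⟨v, hv, hvt⟩ := hN c hc
    show theta U a (lg x (c * pw x t * c⁻¹)) = theta U a (lg x (pw x t))
    rw [hvt, lg_pw hxo, lg_pw hxo, hU.theta_mul a hv]

omit hU hN in
theorem Setup.isGeneralized_theta (a : ZMod p) :
    Cfsg.IsGeneralizedCharacter (P : Subgroup G) fun g => theta U a (lg x g) := by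
  let h : ZMod p → (↥(P : Subgroup G) →* ℂ) := fun b =>
    { toFun := fun g => psi p (b * lg x g)
      map_one' := by
        have h : ((1 : (P : Subgroup G)) : G) = pw x (0 : ZMod p) := by simp [pw]
        rw [h, lg_pw hxo, mul_zero, AddChar.map_zero_eq_one]
      map_mul' := fun g g' => by
        obtain ⟨t, ht⟩ := hS.exists_pw hx hxo g.2
        obtain ⟨t', ht'⟩ := hS.exists_pw hx hxo g'.2
        rw [Subgroup.coe_mul, ← ht, ← ht', ← pw_add hxo, lg_pw hxo, lg_pw hxo, lg_pw hxo, mul_add,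
          AddChar.map_add_eq_mul] }
  have e1 : (fun g : (P : Subgroup G) => theta U a (lg x g)) =
      ∑ u ∈ U, ((fun _ => (1 : ℂ)) - fun g => ((h (a * u)).toHomUnits g : ℂ)) := by
    funext g
    simp [theta, h, Finset.sum_apply]
  rw [e1]
  exact Char.isGeneralized_sum _ _ fun u _ => Char.isGeneralized_sub
    (Char.isGeneralized_of_isCharacter Char.isCharacter_one)
    (Char.isGeneralized_of_isCharacter (Char.isCharacter_hom _))

end Cfsg.Agent.BlockThms.OrderP
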