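import Mathlib
import Cfsg.Agent.Blocks.PPart
import Cfsg.Agent.Blocks.Sections
import Cfsg.Agent.BlockThms.Omega
import Cfsg.Agent.BlockThms.BrauerMap

/-!
# The residue field and functions depending on the p'-part
-/

set_option autoImplicit false

namespace Cfsg.Agent.BlockThms.OrderP

open scoped ComplexConjugate
open Cfsg.Agent Cfsg.Agent.Blocks

universe u

variable {p : ℕ} {M : Ideal Cfsg.AlgInt}

attribute [local instance] Ideal.Quotient.field

/-- The residue field is algebraically closed. -/
theorem isAlgClosed_residue [M.IsMaximal] : IsAlgClosed (Cfsg.AlgInt ⧸ M) := by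
  refine IsAlgClosed.of_exists_root _ fun q hq hirr => ?_
  obtain ⟨Q, hQ, hdeg, hQm⟩ := Polynomial.lifts_and_natDegree_eq_and_monic
    ((Polynomial.mem_lifts q).2
      (Polynomial.map_surjective (Ideal.Quotient.mk M) Ideal.Quotient.mk_surjective q)) hq
  have hQd : (Q.map (algebraMap Cfsg.AlgInt ℂ)).degree ≠ 0 := by
    rw [hQm.degree_map, Polynomial.degree_eq_natDegree hQm.ne_zero, hdeg]
    have := Irreducible.natDegree_pos hirr
    exact_mod_cast this.ne'
  obtain ⟨z, hz⟩ := IsAlgClosed.exists_root _ hQd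
  have hz' : IsIntegral Cfsg.AlgInt z := ⟨Q, hQm, by rwa [← Polynomial.eval_map]⟩
  have hzZ : IsIntegral ℤ z := isIntegral_trans (R := ℤ) z hz'
  set w : Cfsg.AlgInt := ⟨z, mem_algInt.2 hzZ⟩ with hw
  have h0 : Q.eval w = 0 := by
    apply Subtype.val_injective
    show algebraMap Cfsg.AlgInt ℂ (Q.eval w) = 0
    rw [← Polynomial.eval₂_at_apply, ← Polynomial.eval_map]
    exact hz
  refine ⟨Ideal.Quotient.mk M w, ?_⟩
  rw [← hQ, Polynomial.eval_map, Polynomial.eval₂_at_apply, h0, map_zero]

/-- Residues of sums. -/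
theorem resFun_sum (hM : Cfsg.IsPModular p M) {ι : Type*} (s : Finset ι) {f : ι → ℂ}
    (hf : ∀ i ∈ s, Cfsg.MemLocalRing M (f i)) :
    resFun hM (∑ i ∈ s, f i) = ∑ i ∈ s, resFun hM (f i) := by
  classical
  induction s using Finset.induction_on with
  | empty => simpa using resFun_coe hM 0
  | insert i s hi ih =>
    rw [Finset.sum_insert hi, Finset.sum_insert hi,
      resFun_add hM (hf i (Finset.mem_insert_self i s))
        ((localRing hM).sum_mem fun j hj => hf j (Finset.mem_insert_of_mem hj)),
      ih fun j hj => hf j (Finset.mem_insert_of_mem hj)]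

variable {G : Type u} [Group G] [Fintype G] [Fact p.Prime]

theorem pPrimePartOf_conj' (g c : G) :
    pPrimePartOf p (c * g * c⁻¹) = c * pPrimePartOf p g * c⁻¹ := by
  have h1 : orderOf (c * g * c⁻¹) = orderOf g :=
    orderOf_injective (MulAut.conj c).toMonoidHom (MulAut.conj c).injective g
  rw [pPrimePartOf, pPrimePartOf, h1, conj_pow]

theorem pPrimePartOf_self {y : G} (hy : ¬ p ∣ orderOf y) : pPrimePartOf p y = y := by
  have h := (parts_mul (Fact.out : p.Prime) (Commute.one_left y) ⟨0, by simp⟩ hy).2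
  rwa [one_mul] at h

/-- A class function depending only on the p'-part has local multiplicities. -/
theorem memLocalRing_classInner_pPrime (hM : Cfsg.IsPModular p M) {F : G → ℂ}
    (hF : Cfsg.IsClassFunction G F) (hFR : ∀ g, Cfsg.MemLocalRing M (F g))
    (hFp : ∀ g, F g = F (pPrimePartOf p g)) {χ : G → ℂ} (hχ : Cfsg.IsCharacter G χ) :
    Cfsg.MemLocalRing M (Cfsg.classInner F χ) := by
  classical
  have hp : p.Prime := Fact.out
  set θ : G → ℂ := fun g => conj (χ g) with hθdef
  have hθ : Cfsg.IsCharacter G θ := Char.isCharacter_conj hχ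
  have hθc : Cfsg.IsClassFunction G θ := Char.isClassFunction_of_isCharacter hθ
  have hW : ∀ y : G, ¬ p ∣ orderOf y →
      Cfsg.MemLocalRing M ((Nat.card (Subgroup.centralizer ({y} : Set G)) : ℂ)⁻¹ *
        ∑ g ∈ Finset.univ.filter (fun g => pPrimePartOf p g = y), θ g) := by
    intro y hy
    set D := Subgroup.centralizer ({y} : Set G) with hD
    have : Fintype D := Fintype.ofFinite _
    have hsum : ∑ g ∈ Finset.univ.filter (fun g => pPrimePartOf p g = y), θ g =
        ∑ t ∈ Finset.univ.filter (fun t : D => ∃ k, orderOf t = p ^ k), θ (y * (t : G)) := by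
      symm
      refine Finset.sum_bij (fun t _ => y * (t : G)) ?_ ?_ ?_ fun _ _ => rfl
      · intro t ht
        obtain ⟨k, hk⟩ := (Finset.mem_filter.1 ht).2
        refine Finset.mem_filter.2 ⟨Finset.mem_univ _, ?_⟩
        have hc : Commute (t : G) y := Subgroup.mem_centralizer_singleton_iff.1 t.2
        rw [← hc.eq]
        exact (parts_mul hp hc ⟨k, by rw [← hk, Subgroup.orderOf_coe]⟩ hy).2
      · intro a _ b _ h
        exact Subtype.ext (mul_left_cancel h)
      · intro g hg
        have hg' := (Finset.mem_filter.1 hg).2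
        refine ⟨⟨pPartOf p g, Subgroup.mem_centralizer_singleton_iff.2
          (hg' ▸ (commute_pPartOf_pPrimePartOf g).eq)⟩, ?_, ?_⟩
        · obtain ⟨k, hk⟩ := orderOf_pPartOf hp g
          exact Finset.mem_filter.2 ⟨Finset.mem_univ _, k, by rw [← hk, ← Subgroup.orderOf_coe]⟩
        · show y * pPartOf p g = g
          rw [← hg', ← (commute_pPartOf_pPrimePartOf g).eq, pPartOf_mul_pPrimePartOf hp]
    set s : D := ⟨y, Subgroup.mem_centralizer_singleton_iff.2 rfl⟩
    have hs : s ∈ Subgroup.center D := Subgroup.mem_center_iff.2 fun t =>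
      Subtype.ext (Subgroup.mem_centralizer_singleton_iff.1 t.2)
    obtain ⟨l, hl⟩ := exists_decomp_central hθ D hs
    rw [hsum, Finset.mul_sum]
    simp only [show ∀ t : D, θ (y * (t : G)) = (l.map fun ψ : Cfsg.IrrCharacter D =>
      Cfsg.centralChar (ψ : D → ℂ) s * (ψ : D → ℂ) t).sum from fun t => hl t]
    clear hl
    induction l using Multiset.induction_on with
    | empty => simp [(localRing hM).zero_mem, ← mem_localRing hM]
    | cons ψ l ih =>
      simp only [Multiset.map_cons, Multiset.sum_cons, mul_add, Finset.sum_add_distrib]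
      refine (localRing hM).add_mem ?_ ih
      rw [← Finset.mul_sum, ← Finset.mul_sum, mul_left_comm]
      exact (localRing hM).mul_mem (memLocalRing_centralChar hM ψ.2 _)
        (memLocalRing_sum_pElements hM (Char.IsIrr.isCharacter ψ.2))
  set Φ : G → ℂ := fun y => if p ∣ orderOf y then 0 else F y *
    ((Nat.card (Subgroup.centralizer ({y} : Set G)) : ℂ)⁻¹ *
      ∑ g ∈ Finset.univ.filter (fun g => pPrimePartOf p g = y), θ g) with hΦ
  have hΦR : ∀ y, Cfsg.MemLocalRing M (Φ y) := by
    intro y
    simp only [hΦ]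
    split_ifs with h
    · exact (localRing hM).zero_mem
    · exact (localRing hM).mul_mem (hFR y) (hW y h)
  have hΦc : ∀ y c : G, Φ (c * y * c⁻¹) = Φ y := by
    intro y c
    have ho : orderOf (c * y * c⁻¹) = orderOf y :=
      orderOf_injective (MulAut.conj c).toMonoidHom (MulAut.conj c).injective y
    have hs : ∑ g ∈ Finset.univ.filter (fun g => pPrimePartOf p g = c * y * c⁻¹), θ g =
        ∑ g ∈ Finset.univ.filter (fun g => pPrimePartOf p g = y), θ g := by
      refine (Finset.sum_equiv (MulAut.conj c).toEquiv (fun g => ?_) fun g _ => (hθc g c).symm).symm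
      simp [pPrimePartOf_conj']
    simp only [hΦ, ho, hs, card_centralizer_conj, hF y c]
  have htot : ∑ g, F g * θ g =
      ∑ y, (Nat.card (Subgroup.centralizer ({y} : Set G)) : ℂ) * Φ y := by
    rw [← Finset.sum_fiberwise Finset.univ (pPrimePartOf p) (fun g => F g * θ g)]
    refine Finset.sum_congr rfl fun y _ => ?_
    simp only [hΦ]
    split_ifs with h
    · rw [mul_zero]
      refine Finset.sum_eq_zero fun g hg => ?_
      exact absurd ((Finset.mem_filter.1 hg).2 ▸ h) (not_dvd_orderOf_pPrimePartOf hp g)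
    · rw [mul_left_comm, ← mul_assoc (Nat.card _ : ℂ),
        mul_inv_cancel₀ (Nat.cast_ne_zero.2 Nat.card_pos.ne'), one_mul, Finset.mul_sum]
      exact Finset.sum_congr rfl fun g hg => by rw [hFp g, (Finset.mem_filter.1 hg).2]
  have : Fintype (ConjClasses G) := Fintype.ofFinite _
  rw [Cfsg.classInner, show ∑ g, F g * conj (χ g) = ∑ g, F g * θ g from rfl, htot,
    BlockThms.sum_classes, Finset.mul_sum]
  refine (localRing hM).sum_mem fun C _ => ?_
  have hC : ∀ y ∈ Finset.univ.filter (fun x : G => ConjClasses.mk x = C),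
      (Nat.card (Subgroup.centralizer ({y} : Set G)) : ℂ) * Φ y =
        (Nat.card (Subgroup.centralizer ({C.out} : Set G)) : ℂ) * Φ C.out := by
    intro y hy
    obtain ⟨c, hc⟩ := isConj_iff.1 (ConjClasses.mk_eq_mk_iff_isConj.1
      ((Finset.mem_filter.1 hy).2.trans (Quotient.out_eq C).symm))
    rw [← hc, card_centralizer_conj, hΦc]
  rw [Finset.sum_congr rfl hC, Finset.sum_const, BlockThms.card_filter_classes, nsmul_eq_mul,
    ← mul_assoc _ (Nat.card _ : ℂ), ← Nat.cast_mul,
    mul_comm _ (Nat.card (Subgroup.centralizer _)), Subgroup.card_mul_index,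
    inv_mul_cancel_left₀ Char.card_ne_zero]
  exact hΦR _

end Cfsg.Agent.BlockThms.OrderP
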