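import Mathlib

/-!
# Representations of a cyclic-by-cyclic group: separating two linear forms

For `X` unipotent and `Y` of finite order prime to the characteristic with `Y X = X ^ r Y`, two
eigen-forms of `Y` trivial on `X - 1` with different eigenvalues are separated by an endomorphism
commuting with `X` and `Y`.  (The module is a sum of cyclic submodules generated by eigenvectors
of `Y`, each with a one-dimensional head.)
-/

set_option autoImplicit false

namespace Cfsg.Agent.BlockThms.OrderP

variable {k V : Type*} [Field k] [AddCommGroup V] [Module k V]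

theorem geom_eq_zero {ω : k} {e i : ℕ} (hω : IsPrimitiveRoot ω e) (hi : 0 < i) (hie : i < e) :
    ∑ j ∈ Finset.range e, (ω ^ i) ^ j = 0 := by
  have h1 : ω ^ i ≠ 1 := fun h => by
    have := Nat.le_of_dvd hi (hω.dvd_of_pow_eq_one i h)
    omega
  rw [geom_sum_eq h1, ← pow_mul, mul_comm, pow_mul, hω.pow_eq_one, one_pow, sub_self, zero_div]

/-- Eigenvectors of an operator of finite order span. -/
theorem exists_eigen_not_ker {W : Type*} [AddCommGroup W] [Module k W] (Y : Module.End k V)
    {e : ℕ} {ω : k} (hω : IsPrimitiveRoot ω e) (he : (e : k) ≠ 0) (hY : Y ^ e = 1)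
    (T : V →ₗ[k] W) (hT : T ≠ 0) : ∃ (v : V) (a : k), Y v = a • v ∧ a ^ e = 1 ∧ T v ≠ 0 := by
  have he0 : 0 < e := Nat.pos_of_ne_zero fun h => he (by simp [h])
  obtain ⟨v, hv⟩ : ∃ v, T v ≠ 0 := by
    by_contra h
    push Not at h
    exact hT (LinearMap.ext h)
  let E : ℕ → V := fun j => ∑ i ∈ Finset.range e, (ω ^ j) ^ i • (Y ^ i) v
  have hsum : ∑ j ∈ Finset.range e, E j = (e : k) • v := by
    simp only [E]
    rw [Finset.sum_comm, Finset.sum_eq_single 0]
    · simp [Nat.cast_smul_eq_nsmul]
    · intro i hi hi0
      rw [← Finset.sum_smul]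
      simp only [← pow_mul, mul_comm _ i]
      simp only [pow_mul]
      rw [geom_eq_zero hω (Nat.pos_of_ne_zero hi0) (Finset.mem_range.1 hi), zero_smul]
    · intro h
      exact absurd (Finset.mem_range.2 he0) h
  obtain ⟨j, -, hj⟩ : ∃ j ∈ Finset.range e, T (E j) ≠ 0 := by
    by_contra h
    push Not at h
    apply hv
    have h1 := congrArg T hsum
    rw [map_sum, Finset.sum_eq_zero h, map_smul] at h1
    exact (smul_eq_zero.1 h1.symm).resolve_left he
  have hω0 : ω ≠ 0 := hω.ne_zero he0.ne'
  refine ⟨E j, (ω ^ j)⁻¹, ?_, ?_, hj⟩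
  · obtain ⟨e', rfl⟩ : ∃ e', e = e' + 1 := ⟨e - 1, by omega⟩
    simp only [E, map_sum, map_smul, Finset.smul_sum, smul_smul]
    have h1 : ∀ i, Y ((Y ^ i) v) = (Y ^ (i + 1)) v := fun i => by
      rw [pow_succ', Module.End.mul_apply]
    simp only [h1]
    rw [Finset.sum_range_succ, Finset.sum_range_succ' (fun i =>
      ((ω ^ j)⁻¹ * (ω ^ j) ^ i) • (Y ^ i) v)]
    refine congrArg₂ (· + ·) (Finset.sum_congr rfl fun i _ => ?_) ?_
    · rw [pow_succ' (ω ^ j), inv_mul_cancel_left₀ (pow_ne_zero _ hω0)]
    · rw [hY, pow_zero, pow_zero, mul_one]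
      congr 1
      refine eq_inv_of_mul_eq_one_left ?_
      rw [← pow_succ, ← pow_mul, mul_comm, pow_mul, hω.pow_eq_one, one_pow]
  · rw [inv_pow, ← pow_mul, mul_comm, pow_mul, hω.pow_eq_one, one_pow, inv_one]

theorem conj_pow_comm {X Y : Module.End k V} {r : ℕ} (hYX : Y * X = X ^ r * Y) :
    ∀ i : ℕ, Y * X ^ i = X ^ (r * i) * Y := by
  intro i
  induction i with
  | zero => simp
  | succ i ih =>
    rw [pow_succ, ← mul_assoc, ih, mul_assoc, hYX, ← mul_assoc, ← pow_add, Nat.mul_succ]

theorem pow_conj_comm {X Y : Module.End k V} {r : ℕ} (hYX : Y * X = X ^ r * Y) :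
    ∀ i : ℕ, Y ^ i * X = X ^ (r ^ i) * Y ^ i := by
  intro i
  induction i with
  | zero => simp
  | succ i ih =>
    rw [pow_succ', mul_assoc, ih, ← mul_assoc, conj_pow_comm hYX, mul_assoc, ← pow_succ',
      pow_succ' r]

/-- The induction. -/
theorem exists_separating_aux {p e r : ℕ} {ω : k} (hω : IsPrimitiveRoot ω e) (he : (e : k) ≠ 0) :
    ∀ (d : ℕ) {V : Type*} [AddCommGroup V] [Module k V] [FiniteDimensional k V],
      Module.finrank k V ≤ d → ∀ (X Y : Module.End k V), (X - 1) ^ p = 0 → Y ^ e = 1 →
      Y * X = X ^ r * Y → ∀ (f f' : V →ₗ[k] k) (a b : k), a ≠ b → f ∘ₗ X = f →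
      f ∘ₗ Y = a • f → f' ∘ₗ X = f' → f' ∘ₗ Y = b • f' →
      ∃ φ : Module.End k V, φ * X = X * φ ∧ φ * Y = Y * φ ∧ f ∘ₗ φ = f ∧ f' ∘ₗ φ = 0 := by
  intro d
  induction d with
  | zero =>
    intro V _ _ _ hd X Y _ _ _ f f' _ _ _ _ _ _ _
    have : Subsingleton V := Module.finrank_zero_iff.1 (Nat.le_zero.1 hd)
    exact ⟨0, by simp, by simp, LinearMap.ext fun v => by simp [Subsingleton.elim v 0],
      LinearMap.comp_zero _⟩
  | succ d ih =>
    intro V _ _ _ hd X Y hX hY hYX f f' a b hab hfX hfY hf'X hf'Y
    rcases subsingleton_or_nontrivial V with hV | hV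
    · exact ⟨0, by simp, by simp, LinearMap.ext fun v => by simp [Subsingleton.elim v 0],
        LinearMap.comp_zero _⟩
    -- the nilpotency degree
    set t : Module.End k V := X - 1 with ht
    have hex : ∃ h, t ^ h = 0 := ⟨p, hX⟩
    classical
    obtain ⟨h, hh, hmin⟩ : ∃ h, t ^ (h + 1) = 0 ∧ t ^ h ≠ 0 := by
      have hpos : Nat.find hex ≠ 0 := fun h0 => by
        have := Nat.find_spec hex
        rw [h0, pow_zero] at this
        exact one_ne_zero this
      refine ⟨Nat.find hex - 1, ?_, Nat.find_min hex (by omega)⟩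
      rw [Nat.sub_add_cancel (Nat.pos_of_ne_zero hpos)]
      exact Nat.find_spec hex
    obtain ⟨v, c, hvc, hce, hv⟩ := exists_eigen_not_ker Y hω he hY (t ^ h) hmin
    -- the cyclic submodule
    set Z : Submodule k V := Submodule.span k (Set.range fun i : ℕ => (t ^ i) v) with hZ
    have htZ : ∀ i, (t ^ i) v ∈ Z := fun i => Submodule.subset_span ⟨i, rfl⟩
    have hXt : X = t + 1 := by rw [ht, sub_add_cancel]
    have hXZ : ∀ z ∈ Z, X z ∈ Z := by
      intro z hz
      have htz : t z ∈ Z := by
        induction hz using Submodule.span_induction with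
        | mem w hw =>
          obtain ⟨i, rfl⟩ := hw
          rw [← Module.End.mul_apply, ← pow_succ']
          exact htZ _
        | zero => simp
        | add u w _ _ hu hw => rw [map_add]; exact Z.add_mem hu hw
        | smul s w _ hw => rw [map_smul]; exact Z.smul_mem s hw
      rw [hXt, LinearMap.add_apply, Module.End.one_apply]
      exact Z.add_mem htz hz
    have hXiZ : ∀ (i : ℕ) z, z ∈ Z → (X ^ i) z ∈ Z := by
      intro i
      induction i with
      | zero => intro z hz; simpa using hz
      | succ i ihi => intro z hz; rw [pow_succ', Module.End.mul_apply]; exact hXZ _ (ihi z hz)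
    have hYZ : ∀ z ∈ Z, Y z ∈ Z := by
      intro z hz
      induction hz using Submodule.span_induction with
      | mem w hw =>
        obtain ⟨i, rfl⟩ := hw
        show Y ((t ^ i) v) ∈ Z
        induction i with
        | zero => rw [pow_zero, Module.End.one_apply, hvc]; exact Z.smul_mem _ (htZ 0)
        | succ i ihi =>
          have e1 : Y * t = (X ^ r - 1) * Y := by
            rw [ht, mul_sub, hYX, mul_one, sub_mul, one_mul]
          rw [pow_succ', Module.End.mul_apply, ← Module.End.mul_apply Y t, e1,
            Module.End.mul_apply, LinearMap.sub_apply, Module.End.one_apply]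
          exact Z.sub_mem (hXiZ _ _ ihi) ihi
      | zero => simp
      | add u w _ _ hu hw => rw [map_add]; exact Z.add_mem hu hw
      | smul s w _ hw => rw [map_smul]; exact Z.smul_mem s hw
    have hYiZ : ∀ (i : ℕ) z, z ∈ Z → (Y ^ i) z ∈ Z := by
      intro i
      induction i with
      | zero => intro z hz; simpa using hz
      | succ i ihi => intro z hz; rw [pow_succ', Module.End.mul_apply]; exact hYZ _ (ihi z hz)
    have hvan : ∀ i, h + 1 ≤ i → (t ^ i) v = 0 := fun i hi => by
      obtain ⟨j, rfl⟩ := Nat.exists_eq_add_of_le hi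
      rw [pow_add, hh, zero_mul, LinearMap.zero_apply]
    -- a form isolating the socle vector
    obtain ⟨l, hlh, hlz⟩ : ∃ l : V →ₗ[k] k,
        l ((t ^ h) v) = 1 ∧ ∀ i < h, l ((t ^ i) v) = 0 := by
      have hnot : (t ^ h) v ∉ Submodule.span k
          (Set.range fun i : Fin h => (t ^ (i : ℕ)) v) := by
        rw [Submodule.mem_span_range_iff_exists_fun]
        rintro ⟨cf, hcf⟩
        have hz : ∀ j : Fin h, cf j = 0 := by
          intro j
          induction' hj : (j : ℕ) using Nat.strong_induction_on with n ihn generalizing j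
          have h1 := congrArg (t ^ (h - n)) hcf
          rw [map_sum, Finset.sum_eq_single j] at h1
          · have hjh : (j : ℕ) < h := j.isLt
            have e1 : (t ^ (h - n)) ((t ^ (j : ℕ)) v) = (t ^ h) v := by
              rw [← Module.End.mul_apply, ← pow_add, show h - n + (j : ℕ) = h by omega]
            have e2 : (t ^ (h - n)) ((t ^ h) v) = 0 := by
              rw [← Module.End.mul_apply, ← pow_add, hvan _ (by omega)]
            rw [map_smul, e1, e2] at h1
            exact (smul_eq_zero.1 h1).resolve_right hv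
          · intro i _ hij
            rcases lt_or_gt_of_ne (Fin.val_ne_of_ne hij) with h2 | h2
            · rw [ihn (i : ℕ) (by omega) i rfl, zero_smul, map_zero]
            · rw [map_smul, ← Module.End.mul_apply, ← pow_add, hvan _ (by omega), smul_zero]
          · intro h2; exact absurd (Finset.mem_univ j) h2
        rw [Finset.sum_eq_zero fun j _ => by rw [hz j, zero_smul]] at hcf
        exact hv hcf.symm
      obtain ⟨l, hl1, hl2⟩ := Submodule.exists_dual_map_eq_bot_of_notMem hnot inferInstance
      refine ⟨(l ((t ^ h) v))⁻¹ • l, by simp [hl1], fun i hi => ?_⟩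
      have : l ((t ^ i) v) ∈ (⊥ : Submodule k k) :=
        hl2 ▸ Submodule.mem_map_of_mem (Submodule.subset_span ⟨⟨i, hi⟩, rfl⟩)
      simp [(Submodule.mem_bot k).1 this]
    -- the equivariant projection
    set π₀ : Module.End k V :=
      ∑ i ∈ Finset.range (h + 1), (l ∘ₗ (t ^ (h - i))).smulRight ((t ^ i) v) with hπ₀
    have hπ₀t : π₀ * t = t * π₀ := by
      refine LinearMap.ext fun w => ?_
      simp only [hπ₀, Module.End.mul_apply, LinearMap.sum_apply, LinearMap.smulRight_apply,
        LinearMap.comp_apply, map_sum, map_smul]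
      rw [Finset.sum_range_succ', Finset.sum_range_succ (fun i =>
        l ((t ^ (h - i)) w) • t ((t ^ i) v))]
      rw [Nat.sub_zero, ← Module.End.mul_apply (t ^ h) t, ← pow_succ, hh, LinearMap.zero_apply,
        map_zero, zero_smul, add_zero, ← Module.End.mul_apply t (t ^ h), ← pow_succ', hh,
        LinearMap.zero_apply, smul_zero, add_zero]
      refine Finset.sum_congr rfl fun i hi => ?_
      have hi' := Finset.mem_range.1 hi
      rw [← Module.End.mul_apply (t ^ (h - (i + 1))) t, ← pow_succ,
        show h - (i + 1) + 1 = h - i by omega, pow_succ' t i, Module.End.mul_apply]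
    have hπ₀X : π₀ * X = X * π₀ := by rw [hXt, mul_add, add_mul, hπ₀t, mul_one, one_mul]
    have hπ₀v : π₀ v = v := by
      simp only [hπ₀, LinearMap.sum_apply, LinearMap.smulRight_apply, LinearMap.comp_apply]
      rw [Finset.sum_eq_single 0]
      · rw [Nat.sub_zero, hlh, one_smul, pow_zero, Module.End.one_apply]
      · intro i hi hi0
        rw [hlz (h - i) (by have := Finset.mem_range.1 hi; omega), zero_smul]
      · intro h0; exact absurd (Finset.mem_range.2 h.succ_pos) h0
    have hπ₀Z : ∀ w, π₀ w ∈ Z := fun w => by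
      simp only [hπ₀, LinearMap.sum_apply, LinearMap.smulRight_apply]
      exact Z.sum_mem fun i _ => Z.smul_mem _ (htZ i)
    set π : Module.End k V :=
      (e : k)⁻¹ • ∑ i ∈ Finset.range e, Y ^ i * π₀ * Y ^ (e - i) with hπ
    have he0 : 0 < e := Nat.pos_of_ne_zero fun h => he (by simp [h])
    have hπY : π * Y = Y * π := by
      obtain ⟨e', rfl⟩ : ∃ e', e = e' + 1 := ⟨e - 1, by omega⟩
      rw [hπ, smul_mul_assoc, mul_smul_comm]
      congr 1
      rw [Finset.mul_sum, Finset.sum_mul]
      simp only [mul_assoc, ← pow_succ]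
      rw [Finset.sum_range_succ', Finset.sum_range_succ
        (fun i => Y * (Y ^ i * (π₀ * Y ^ (e' + 1 - i))))]
      refine congrArg₂ (· + ·) (Finset.sum_congr rfl fun i hi => ?_) ?_
      · have hi' := Finset.mem_range.1 hi
        rw [← mul_assoc Y, ← pow_succ', show e' + 1 - (i + 1) + 1 = e' + 1 - i by omega]
      · rw [Nat.sub_zero, pow_succ _ (e' + 1), hY, one_mul, show e' + 1 - e' = 1 by omega,
          pow_zero, one_mul, pow_one, ← mul_assoc Y (Y ^ e'), ← pow_succ', hY, one_mul]
    have hπX : π * X = X * π := by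
      rw [hπ, smul_mul_assoc, mul_smul_comm]
      congr 1
      rw [Finset.mul_sum, Finset.sum_mul]
      refine Finset.sum_congr rfl fun i hi => ?_
      have hi' := Finset.mem_range.1 hi
      have hi1 : X * Y ^ i = Y ^ i * X ^ (r ^ (e - i)) := by
        have h1 := congrArg (fun T => Y ^ i * T * Y ^ i) (pow_conj_comm hYX (e - i))
        rw [← mul_assoc (Y ^ i), ← pow_add, show i + (e - i) = e by omega, hY, one_mul,
          mul_assoc (Y ^ i), mul_assoc, ← pow_add, show e - i + i = e by omega, hY, mul_one] at h1
        exact h1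
      have hcomm : Commute π₀ X := hπ₀X
      rw [mul_assoc (Y ^ i * π₀), pow_conj_comm hYX (e - i), ← mul_assoc, mul_assoc (Y ^ i),
        (hcomm.pow_right _).eq, ← mul_assoc (Y ^ i), ← hi1]
      try simp only [mul_assoc]
    have hce' : ∀ i ≤ e, c ^ (e - i) * c ^ i = 1 := fun i hi => by
      rw [← pow_add, Nat.sub_add_cancel hi, hce]
    have hpowv : ∀ i : ℕ, (Y ^ i) v = c ^ i • v := by
      intro i
      induction i with
      | zero => simp
      | succ i ihi =>
        rw [pow_succ', Module.End.mul_apply, ihi, map_smul, hvc, smul_smul, ← pow_succ]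
    have hπv : π v = v := by
      rw [hπ, LinearMap.smul_apply, LinearMap.sum_apply]
      have h1 : ∀ i ∈ Finset.range e, (Y ^ i * π₀ * Y ^ (e - i)) v = v := fun i hi => by
        rw [Module.End.mul_apply, Module.End.mul_apply, hpowv, map_smul, hπ₀v, map_smul, hpowv,
          smul_smul, hce' i (Finset.mem_range.1 hi).le, one_smul]
      rw [Finset.sum_congr rfl h1, Finset.sum_const, Finset.card_range,
        ← Nat.cast_smul_eq_nsmul k, smul_smul, inv_mul_cancel₀ he, one_smul]
    have hπZ : ∀ w, π w ∈ Z := fun w => by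
      rw [hπ, LinearMap.smul_apply, LinearMap.sum_apply]
      refine Z.smul_mem _ (Z.sum_mem fun i _ => ?_)
      rw [Module.End.mul_apply, Module.End.mul_apply]
      exact hYiZ i _ (hπ₀Z _)
    have hπfix : ∀ z ∈ Z, π z = z := by
      intro z hz
      induction hz using Submodule.span_induction with
      | mem w hw =>
        obtain ⟨i, rfl⟩ := hw
        have hc : Commute π t := by
          show π * t = t * π
          rw [ht, mul_sub, sub_mul, hπX, mul_one, one_mul]
        show π ((t ^ i) v) = (t ^ i) v
        rw [← Module.End.mul_apply, (hc.pow_right i).eq, Module.End.mul_apply, hπv]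
      | zero => simp
      | add u w _ _ hu hw => rw [map_add, hu, hw]
      | smul s w _ hw => rw [map_smul, hw]
    -- forms on the cyclic submodule
    have hform : ∀ (g : V →ₗ[k] k) (s : k), g ∘ₗ X = g → g ∘ₗ Y = s • g → c ≠ s →
        ∀ z ∈ Z, g z = 0 := by
      intro g s hgX hgY hcs z hz
      have hgv : g v = 0 := by
        have h1 := LinearMap.congr_fun hgY v
        rw [LinearMap.comp_apply, hvc, map_smul, LinearMap.smul_apply] at h1
        by_contra hne
        exact hcs (mul_right_cancel₀ hne (by simpa [smul_eq_mul] using h1))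
      induction hz using Submodule.span_induction with
      | mem w hw =>
        obtain ⟨i, rfl⟩ := hw
        show g ((t ^ i) v) = 0
        rcases i with _ | i
        · simpa using hgv
        · rw [pow_succ', Module.End.mul_apply, ht, LinearMap.sub_apply, Module.End.one_apply,
            map_sub, ← LinearMap.comp_apply g X, hgX, sub_self]
      | zero => simp
      | add u w _ _ hu hw => rw [map_add, hu, hw, add_zero]
      | smul s w _ hw => rw [map_smul, hw, smul_zero]
    -- the complement
    set W : Submodule k V := LinearMap.ker π with hW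
    have hWX : ∀ w ∈ W, X w ∈ W := fun w hw => by
      rw [hW, LinearMap.mem_ker] at hw ⊢
      rw [← Module.End.mul_apply, hπX, Module.End.mul_apply, hw, map_zero]
    have hWY : ∀ w ∈ W, Y w ∈ W := fun w hw => by
      rw [hW, LinearMap.mem_ker] at hw ⊢
      rw [← Module.End.mul_apply, hπY, Module.End.mul_apply, hw, map_zero]
    have hlt : Module.finrank k W ≤ d := by
      have h1 : W < ⊤ := lt_top_iff_ne_top.2 fun htop => by
        have : v ∈ W := htop ▸ Submodule.mem_top
        rw [hW, LinearMap.mem_ker, hπv] at this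
        exact hv (by rw [this, map_zero])
      have := Submodule.finrank_lt_finrank_of_lt h1
      rw [finrank_top] at this
      omega
    have hres : ∀ (T : Module.End k V) (hT : ∀ w ∈ W, T w ∈ W) (i : ℕ) (w : W),
        (((T.restrict hT) ^ i) w : V) = (T ^ i) w := by
      intro T hT i
      induction i with
      | zero => intro w; simp
      | succ i ihi =>
        intro w
        rw [pow_succ, pow_succ, Module.End.mul_apply, Module.End.mul_apply, ihi]
        rfl
    obtain ⟨φ₂, hφX, hφY, hφf, hφf'⟩ := ih hlt (X.restrict hWX) (Y.restrict hWY)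
      (by
        refine LinearMap.ext fun w => Subtype.ext ?_
        have e1 : X.restrict hWX - 1 = t.restrict (fun w hw => W.sub_mem (hWX w hw) hw) :=
          LinearMap.ext fun w => Subtype.ext rfl
        rw [e1, hres, ht, hX]
        rfl)
      (LinearMap.ext fun w => Subtype.ext (by rw [hres, hY]; rfl))
      (LinearMap.ext fun w => Subtype.ext (by
        rw [Module.End.mul_apply, Module.End.mul_apply, hres]
        exact LinearMap.congr_fun hYX (w : V)))
      (f ∘ₗ W.subtype) (f' ∘ₗ W.subtype) a b hab
      (LinearMap.ext fun w => LinearMap.congr_fun hfX (w : V))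
      (LinearMap.ext fun w => LinearMap.congr_fun hfY (w : V))
      (LinearMap.ext fun w => LinearMap.congr_fun hf'X (w : V))
      (LinearMap.ext fun w => LinearMap.congr_fun hf'Y (w : V))
    have hQ : ∀ w, (1 - π) w ∈ W := fun w => by
      rw [hW, LinearMap.mem_ker, LinearMap.sub_apply, Module.End.one_apply, map_sub,
        hπfix _ (hπZ w), sub_self]
    set q : V →ₗ[k] W := (1 - π).codRestrict W hQ with hq
    have hqX : ∀ w, q (X w) = X.restrict hWX (q w) := fun w => Subtype.ext (by
      show (1 - π) (X w) = X ((1 - π) w)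
      simp only [LinearMap.sub_apply, Module.End.one_apply, map_sub]
      rw [← Module.End.mul_apply π X, hπX, Module.End.mul_apply])
    have hqY : ∀ w, q (Y w) = Y.restrict hWY (q w) := fun w => Subtype.ext (by
      show (1 - π) (Y w) = Y ((1 - π) w)
      simp only [LinearMap.sub_apply, Module.End.one_apply, map_sub]
      rw [← Module.End.mul_apply π Y, hπY, Module.End.mul_apply])
    refine ⟨W.subtype ∘ₗ φ₂ ∘ₗ q + (if c = a then π else 0), ?_, ?_, ?_, ?_⟩
    · refine LinearMap.ext fun w => ?_
      simp only [Module.End.mul_apply, LinearMap.add_apply, LinearMap.comp_apply, map_add, hqX]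
      rw [← Module.End.mul_apply φ₂, hφX, Module.End.mul_apply]
      refine congrArg₂ (· + ·) rfl ?_
      split_ifs
      · exact LinearMap.congr_fun hπX w
      · simp
    · refine LinearMap.ext fun w => ?_
      simp only [Module.End.mul_apply, LinearMap.add_apply, LinearMap.comp_apply, map_add, hqY]
      rw [← Module.End.mul_apply φ₂, hφY, Module.End.mul_apply]
      refine congrArg₂ (· + ·) rfl ?_
      split_ifs
      · exact LinearMap.congr_fun hπY w
      · simp
    · refine LinearMap.ext fun w => ?_
      have h1 : f (φ₂ (q w) : V) = f ((q w : W) : V) := LinearMap.congr_fun hφf (q w)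
      have h2 : ((q w : W) : V) = w - π w := rfl
      simp only [LinearMap.comp_apply, LinearMap.add_apply, map_add, Submodule.subtype_apply, h1,
        h2, map_sub]
      split_ifs with hca
      · ring
      · rw [LinearMap.zero_apply, map_zero, hform f a hfX hfY hca _ (hπZ w), sub_zero, add_zero]
    · refine LinearMap.ext fun w => ?_
      have h1 : f' (φ₂ (q w) : V) = 0 := LinearMap.congr_fun hφf' (q w)
      simp only [LinearMap.comp_apply, LinearMap.add_apply, map_add, Submodule.subtype_apply, h1,
        LinearMap.zero_apply, zero_add]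
      split_ifs with hca
      · exact hform f' b hf'X hf'Y (hca ▸ hab) _ (hπZ w)
      · simp

/-- Two eigen-forms with different eigenvalues are separated by an equivariant endomorphism. -/
theorem exists_separating [FiniteDimensional k V] {p e r : ℕ} {ω : k} (hω : IsPrimitiveRoot ω e)
    (he : (e : k) ≠ 0) {X Y : Module.End k V} (hX : (X - 1) ^ p = 0) (hY : Y ^ e = 1)
    (hYX : Y * X = X ^ r * Y) {f f' : V →ₗ[k] k} {a b : k} (hab : a ≠ b) (hfX : f ∘ₗ X = f)
    (hfY : f ∘ₗ Y = a • f) (hf'X : f' ∘ₗ X = f') (hf'Y : f' ∘ₗ Y = b • f') :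
    ∃ φ : Module.End k V, φ * X = X * φ ∧ φ * Y = Y * φ ∧ f ∘ₗ φ = f ∧ f' ∘ₗ φ = 0 :=
  exists_separating_aux (p := p) hω he _ le_rfl X Y hX hY hYX f f' a b hab hfX hfY hf'X hf'Y

end Cfsg.Agent.BlockThms.OrderP
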