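import Mathlib
import Cfsg.Agent.BlockThms.OrderP.LinAlg

/-!
# Forms that are relative traces

For a `kG`-module `S` and a one-dimensional character `μ` of a subgroup `N`, an `N`-form of
weight `μ` on `S` is a *trace* if it is `∑ n, μ n • (h ∘ n⁻¹)` for a linear form `h`.
-/

set_option autoImplicit false

namespace Cfsg.Agent.BlockThms.OrderP

universe u v w

variable {k : Type w} [Field k] {G : Type u} [Group G] {S : Type v} [AddCommGroup S] [Module k S]
  [Module (MonoidAlgebra k G) S] [IsScalarTower k (MonoidAlgebra k G) S]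

/-- The action of a group element. -/
noncomputable def act : G →* Module.End k S :=
  ((Algebra.lsmul k k S).toMonoidHom : MonoidAlgebra k G →* Module.End k S).comp
    (MonoidAlgebra.of k G)

theorem act_apply (g : G) (v : S) : act (k := k) g v = MonoidAlgebra.of k G g • v := rfl

theorem map_act {S' : Type*} [AddCommGroup S'] [Module k S'] [Module (MonoidAlgebra k G) S']
    [IsScalarTower k (MonoidAlgebra k G) S'] (T : S →ₗ[MonoidAlgebra k G] S') (g : G) (v : S) :
    T (act (k := k) g v) = act (k := k) g (T v) :=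
  map_smul T (MonoidAlgebra.of k G g) v

/-- `f` is an `N`-form of weight `μ`. -/
def IsWeight (N : Subgroup G) (μ : N →* k) (f : S →ₗ[k] k) : Prop :=
  ∀ (n : N) (v : S), f (act (k := k) (n : G) v) = μ n * f v

variable {N : Subgroup G} [Fintype N] (μ : N →* k)

/-- The relative trace of a linear form. -/
noncomputable def trN (h : S →ₗ[k] k) : S →ₗ[k] k :=
  ∑ n : N, μ n • (h ∘ₗ act (k := k) ((n : G)⁻¹))

/-- `f` is a relative trace. -/
def IsTr (f : S →ₗ[k] k) : Prop := ∃ h : S →ₗ[k] k, f = trN μ h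

theorem trN_apply (h : S →ₗ[k] k) (v : S) :
    trN μ h v = ∑ n : N, μ n * h (act (k := k) ((n : G)⁻¹) v) := by
  simp [trN, LinearMap.sum_apply]

theorem isWeight_trN (h : S →ₗ[k] k) : IsWeight N μ (trN μ h) := by
  intro m v
  rw [trN_apply, trN_apply, Finset.mul_sum]
  refine (Fintype.sum_equiv (Equiv.mulLeft m) _ _ fun n => ?_).symm
  show μ m * (μ n * h _) = μ (m * n) * h (act (((m * n : N) : G)⁻¹) (act (m : G) v))
  rw [map_mul, mul_assoc, ← Module.End.mul_apply (act (((m * n : N) : G)⁻¹)), ← map_mul]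
  congr 3
  simp [mul_assoc]

theorem trN_comp {S' : Type*} [AddCommGroup S'] [Module k S'] [Module (MonoidAlgebra k G) S']
    [IsScalarTower k (MonoidAlgebra k G) S'] (T : S' →ₗ[MonoidAlgebra k G] S)
    (h : S →ₗ[k] k) : trN μ h ∘ₗ T.restrictScalars k = trN μ (h ∘ₗ T.restrictScalars k) := by
  refine LinearMap.ext fun v => ?_
  simp [trN_apply, map_act]

variable {μ}

omit [Fintype N] in
theorem IsWeight.comp {S' : Type*} [AddCommGroup S'] [Module k S'] [Module (MonoidAlgebra k G) S']
    [IsScalarTower k (MonoidAlgebra k G) S'] {f : S →ₗ[k] k} (hf : IsWeight N μ f)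
    (T : S' →ₗ[MonoidAlgebra k G] S) : IsWeight N μ (f ∘ₗ T.restrictScalars k) := fun n v => by
  simp [map_act, hf n]

/-- Traces extend across extensions. -/
theorem isTr_of_submodule [FiniteDimensional k S] (W : Submodule (MonoidAlgebra k G) S)
    (hW : ∀ f : W →ₗ[k] k, IsWeight N μ f → IsTr μ f)
    (hQ : ∀ f : (S ⧸ W) →ₗ[k] k, IsWeight N μ f → IsTr μ f)
    (f : S →ₗ[k] k) (hf : IsWeight N μ f) : IsTr μ f := by
  obtain ⟨h, hh⟩ := hW _ (hf.comp W.subtype)
  obtain ⟨h', hh'⟩ := LinearMap.exists_extend (p := W.restrictScalars k) h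
  set g := f - trN μ h' with hg
  have hgW : ∀ x ∈ W, g x = 0 := fun x hx => by
    have e1 := LinearMap.congr_fun hh ⟨x, hx⟩
    have e2 : trN μ h' x = trN μ h ⟨x, hx⟩ := by
      simp only [trN_apply]
      refine Finset.sum_congr rfl fun n _ => ?_
      congr 1
      exact LinearMap.congr_fun hh' (act (k := k) ((n : G)⁻¹) ⟨x, hx⟩)
    rw [hg, LinearMap.sub_apply, e2, ← e1]
    exact sub_self _
  have hle : W.restrictScalars k ≤ LinearMap.ker g := fun x hx => LinearMap.mem_ker.2 (hgW x hx)
  set q : S →ₗ[k] S ⧸ W := (Submodule.mkQ W).restrictScalars k with hq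
  have hker : LinearMap.ker q ≤ LinearMap.ker g := fun x hx =>
    hle ((Submodule.Quotient.mk_eq_zero W).1 hx)
  obtain ⟨gb, hgb⟩ : ∃ gb : (S ⧸ W) →ₗ[k] k, gb ∘ₗ q = g := by
    obtain ⟨r, hr⟩ := q.exists_rightInverse_of_surjective
      (LinearMap.range_eq_top.2 (Submodule.mkQ_surjective W))
    refine ⟨g ∘ₗ r, LinearMap.ext fun x => sub_eq_zero.1 ?_⟩
    show g (r (q x)) - g x = 0
    rw [← map_sub]
    exact hker (by rw [LinearMap.mem_ker, map_sub, ← LinearMap.comp_apply q r, hr]; simp)
  have hgbw : IsWeight N μ gb := by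
    intro n y
    obtain ⟨x, rfl⟩ := Submodule.mkQ_surjective W y
    rw [← map_act]
    have hgw : g (act (k := k) (n : G) x) = μ n * g x := by
      rw [hg, LinearMap.sub_apply, LinearMap.sub_apply, hf n x, isWeight_trN μ h' n x, mul_sub]
    rw [← hgb] at hgw
    exact hgw
  obtain ⟨hb, hhb⟩ := hQ gb hgbw
  refine ⟨h' + hb ∘ₗ q, ?_⟩
  have e : f = trN μ h' + g := by rw [hg]; abel
  have e2 : trN μ (hb ∘ₗ q) = g := by rw [hq, ← trN_comp, ← hhb, ← hq, hgb]
  rw [e, ← e2]
  refine LinearMap.ext fun x => ?_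
  simp [trN_apply, mul_add, Finset.sum_add_distrib]

section Simples

/-- A simple `kG`-module on which `ε` acts as the identity. -/
structure SimpleMod (k : Type w) [Field k] (G : Type u) [Group G] (ε : MonoidAlgebra k G) where
  /-- The carrier. -/
  V : Type v
  [addCommGroup : AddCommGroup V]
  [module : Module k V]
  [moduleAlg : Module (MonoidAlgebra k G) V]
  [tower : IsScalarTower k (MonoidAlgebra k G) V]
  [fd : FiniteDimensional k V]
  [simple : IsSimpleModule (MonoidAlgebra k G) V]
  fix : ∀ v : V, ε • v = v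

attribute [instance] SimpleMod.addCommGroup SimpleMod.module SimpleMod.moduleAlg SimpleMod.tower
  SimpleMod.fd SimpleMod.simple

/-- If all weight forms on the simple modules are traces, then so on all modules. -/
theorem isTr_of_simples {ε : MonoidAlgebra k G}
    (hS : ∀ T : SimpleMod.{u, v, w} k G ε, ∀ f : T.V →ₗ[k] k, IsWeight N μ f → IsTr μ f) :
    ∀ (d : ℕ) (S : Type v) [AddCommGroup S] [Module k S] [Module (MonoidAlgebra k G) S]
      [IsScalarTower k (MonoidAlgebra k G) S] [FiniteDimensional k S],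
      Module.finrank k S ≤ d → (∀ v : S, ε • v = v) →
      ∀ f : S →ₗ[k] k, IsWeight N μ f → IsTr μ f := by
  intro d
  induction d with
  | zero =>
    intro S _ _ _ _ _ hd _ f _
    have : Subsingleton S := Module.finrank_zero_iff.1 (Nat.le_zero.1 hd)
    exact ⟨0, LinearMap.ext fun v => by simp [Subsingleton.elim v 0]⟩
  | succ d ih =>
    intro S _ _ _ _ _ hd hε f hf
    rcases subsingleton_or_nontrivial S with hs | hs
    · exact ⟨0, LinearMap.ext fun v => by simp [Subsingleton.elim v 0]⟩
    by_cases hsimp : IsSimpleModule (MonoidAlgebra k G) S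
    · exact hS ⟨S, hε⟩ f hf
    obtain ⟨W, hW0, hW1⟩ : ∃ W : Submodule (MonoidAlgebra k G) S, W ≠ ⊥ ∧ W ≠ ⊤ := by
      by_contra h
      push Not at h
      exact hsimp ((isSimpleModule_iff _ _).2 ⟨fun W => or_iff_not_imp_left.2 (h W)⟩)
    have h1 : Module.finrank k (W.restrictScalars k) < Module.finrank k S :=
      Submodule.finrank_lt fun h => hW1 (by rwa [Submodule.restrictScalars_eq_top_iff] at h)
    have h2 : 0 < Module.finrank k (W.restrictScalars k) := by
      rw [Nat.pos_iff_ne_zero, Ne, Submodule.finrank_eq_zero]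
      exact fun h => hW0 (by rwa [Submodule.restrictScalars_eq_bot_iff] at h)
    have h3 := Submodule.finrank_quotient_add_finrank (W.restrictScalars k)
    have hQfd : FiniteDimensional k (S ⧸ W) :=
      Module.Finite.of_surjective ((Submodule.mkQ W).restrictScalars k)
        (Submodule.mkQ_surjective W)
    have hQd : Module.finrank k (S ⧸ W) = Module.finrank k (S ⧸ W.restrictScalars k) :=
      ((Submodule.Quotient.restrictScalarsEquiv k W).finrank_eq).symm
    have hWfd : FiniteDimensional k W :=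
      inferInstanceAs (FiniteDimensional k (W.restrictScalars k))
    have hWd : Module.finrank k W = Module.finrank k (W.restrictScalars k) := rfl
    refine isTr_of_submodule W (ih W (by omega) fun v => Subtype.ext (hε v))
      (ih (S ⧸ W) (by omega) fun y => ?_) f hf
    obtain ⟨x, rfl⟩ := Submodule.mkQ_surjective W y
    rw [← map_smul, hε]

end Simples

open scoped Classical in
/-- The Mackey step: the trace from `N` of an `N`-endomorphism is the endomorphism plus a relative
trace from the identity subgroup. -/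
theorem exists_trace_endo [Finite G] (P' : Subgroup G) [Fintype P'] (hPN : P' ≤ N)
    (hfree : ∀ q ∈ P', q ≠ 1 → ∀ g : G, g⁻¹ * q * g ∈ N → g ∈ N)
    (hidx : ((P'.subgroupOf N).index : k) ≠ 0)
    (φ : Module.End k S) (hφ : ∀ n : N, φ * act (n : G) = act (n : G) * φ) :
    ∃ (T : S →ₗ[MonoidAlgebra k G] S) (X : Module.End k S),
      T.restrictScalars k = φ + ∑ n : N, act (n : G) * X * act ((n : G)⁻¹) := by
  have : Fintype (G ⧸ N) := Fintype.ofFinite _
  let τ : G → Module.End k S := fun g => act g * φ * act g⁻¹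
  have hτN : ∀ (g : G) (n : N), τ (g * n) = τ g := fun g n => by
    have hn : act (k := k) (S := S) (n : G) * act ((n : G)⁻¹) = 1 := by
      rw [← map_mul, mul_inv_cancel, map_one]
    simp only [τ, mul_inv_rev, map_mul]
    rw [mul_assoc (act g) (act (n : G)) φ, ← hφ n]
    simp only [mul_assoc]
    rw [← mul_assoc (act (n : G)) (act ((n : G)⁻¹)), hn, one_mul]
  let σ : G ⧸ N → Module.End k S := fun c => τ c.out
  have hσ : ∀ g : G, σ (g : G ⧸ N) = τ g := fun g => by
    obtain ⟨n, hn⟩ := QuotientGroup.mk_out_eq_mul N g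
    show τ (g : G ⧸ N).out = τ g
    rw [hn, hτN]
  have hσsmul : ∀ (a : G) (c : G ⧸ N), σ (a • c) = act a * σ c * act a⁻¹ := by
    intro a c
    induction c using QuotientGroup.induction_on with
    | H g =>
      rw [MulAction.Quotient.smul_coe, smul_eq_mul, hσ, hσ]
      simp only [τ, map_mul, mul_inv_rev, mul_assoc]
  set T₀ : Module.End k S := ∑ c, σ c with hT₀
  have hT₀comm : ∀ a : G, T₀ * act a = act a * T₀ := by
    intro a
    have h1 : act a * T₀ * act a⁻¹ = T₀ := by
      rw [hT₀, Finset.mul_sum, Finset.sum_mul]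
      exact Fintype.sum_equiv (MulAction.toPerm a) _ _ fun c => (hσsmul a c).symm
    have h2 := congrArg (· * act a) h1
    simp only [mul_assoc, ← map_mul, inv_mul_cancel, map_one, mul_one] at h2
    exact h2.symm
  let T : S →ₗ[MonoidAlgebra k G] S :=
    { toFun := T₀
      map_add' := map_add T₀
      map_smul' := fun a v => by
        induction a using MonoidAlgebra.induction_on with
        | of g => exact LinearMap.congr_fun (hT₀comm g) v
        | add x y hx hy => simp only [RingHom.id_apply] at hx hy ⊢; rw [add_smul, map_add, hx, hy,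
            add_smul]
        | smul r x hx => simp only [RingHom.id_apply] at hx ⊢; rw [smul_assoc, map_smul, hx,
            smul_assoc] }
  -- the other cosets fall into free orbits of `P'`
  set c₁ : G ⧸ N := ((1 : G) : G ⧸ N) with hc₁
  set others := (Finset.univ : Finset (G ⧸ N)).erase c₁ with hothers
  let pick : G ⧸ N → G ⧸ N := fun c => (Quotient.mk (MulAction.orbitRel P' (G ⧸ N)) c).out
  have hpick : ∀ c, ∃ q : P', q • pick c = c := fun c => by
    have h := Quotient.mk_out (s := MulAction.orbitRel P' (G ⧸ N)) c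
    have h' : c ∈ MulAction.orbit P' (pick c) :=
      MulAction.orbitRel_apply.1 ((MulAction.orbitRel P' (G ⧸ N)).symm' h)
    exact h'
  have hpick_smul : ∀ (q : P') c, pick (q • c) = pick c := fun q c => by
    show Quotient.out _ = Quotient.out _
    rw [Quotient.sound (s := MulAction.orbitRel P' (G ⧸ N))
      (show MulAction.orbitRel P' (G ⧸ N) (q • c) c from MulAction.orbitRel_apply.2 ⟨q, rfl⟩)]
  have hfix₁ : ∀ q : P', q • c₁ = c₁ := fun q => by
    rw [hc₁]
    show ((q : G) • ((1 : G) : G ⧸ N)) = _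
    rw [MulAction.Quotient.smul_coe, smul_eq_mul, mul_one, QuotientGroup.eq, mul_one]
    exact inv_mem (hPN q.2)
  have hothersmul : ∀ (q : P') c, c ≠ c₁ → q • c ≠ c₁ := fun q c hc h => hc (by
    have := congrArg (fun d => q⁻¹ • d) h
    simp only [inv_smul_smul] at this
    rw [this, hfix₁])
  have hfree' : ∀ (q : P') c, c ≠ c₁ → q • c = c → q = 1 := by
    intro q c hc h
    by_contra hq
    induction c using QuotientGroup.induction_on with
    | H g =>
      apply hc
      rw [hc₁, QuotientGroup.eq, mul_one, inv_mem_iff]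
      refine hfree q q.2 (fun e => hq (Subtype.ext e)) g ?_
      have h' : ((q : G) • (g : G ⧸ N)) = (g : G ⧸ N) := h
      rw [MulAction.Quotient.smul_coe, smul_eq_mul, QuotientGroup.eq] at h'
      have := inv_mem h'
      simpa [mul_assoc] using this
  set D := others.image pick with hD
  set X₀ : Module.End k S := ∑ d ∈ D, σ d with hX₀
  have hdec : ∑ q : P', act (q : G) * X₀ * act ((q : G)⁻¹) = ∑ c ∈ others, σ c := by
    have h1 : ∀ q : P', act (q : G) * X₀ * act ((q : G)⁻¹) = ∑ d ∈ D, σ (q • d) := fun q => by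
      rw [hX₀, Finset.mul_sum, Finset.sum_mul]
      exact Finset.sum_congr rfl fun d _ => (hσsmul (q : G) d).symm
    simp only [h1]
    rw [← Finset.sum_product']
    have hDothers : ∀ d ∈ D, d ≠ c₁ := by
      intro d hd
      obtain ⟨c, hc, rfl⟩ := Finset.mem_image.1 hd
      obtain ⟨q, hq⟩ := hpick c
      intro e
      rw [e, hfix₁] at hq
      exact (Finset.mem_erase.1 hc).1 hq.symm
    have hDpick : ∀ d ∈ D, pick d = d := by
      intro d hd
      obtain ⟨c, hc, rfl⟩ := Finset.mem_image.1 hd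
      obtain ⟨q, hq⟩ := hpick c
      conv_rhs => rw [← hq, hpick_smul]
    refine Finset.sum_bij (fun qd _ => qd.1 • qd.2) ?_ ?_ ?_ (fun _ _ => rfl)
    · rintro ⟨q, d⟩ hqd
      exact Finset.mem_erase.2 ⟨hothersmul q d (hDothers d (Finset.mem_product.1 hqd).2),
        Finset.mem_univ _⟩
    · rintro ⟨q, d⟩ hqd ⟨q', d'⟩ hqd' h
      have hd := hDpick d (Finset.mem_product.1 hqd).2
      have hd' := hDpick d' (Finset.mem_product.1 hqd').2
      have hdd : d = d' := by
        have := congrArg pick h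
        simp only [hpick_smul, hd, hd'] at this
        exact this
      subst hdd
      have h2 : (q'⁻¹ * q) • d = d := by
        have h' : q • d = q' • d := h
        rw [mul_smul, h', inv_smul_smul]
      rw [inv_mul_eq_one.1 (hfree' _ d (hDothers d (Finset.mem_product.1 hqd).2) h2)]
    · intro c hc
      obtain ⟨q, hq⟩ := hpick c
      exact ⟨(q, pick c), Finset.mem_product.2 ⟨Finset.mem_univ _,
        Finset.mem_image.2 ⟨c, hc, rfl⟩⟩, hq⟩
  have hσ₁ : σ c₁ = φ := by
    rw [hc₁, hσ]
    simp [τ]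
  have hT₁ : T₀ = φ + ∑ c ∈ others, σ c := by
    rw [hT₀, ← Finset.add_sum_erase _ _ (Finset.mem_univ c₁), hσ₁]
  set T' : Module.End k S := ∑ c ∈ others, σ c with hT'
  have hT'comm : ∀ n : N, act (n : G) * T' * act ((n : G)⁻¹) = T' := fun n => by
    have hn : act (k := k) (S := S) (n : G) * act ((n : G)⁻¹) = 1 := by
      rw [← map_mul, mul_inv_cancel, map_one]
    have e : T' = T₀ - φ := by rw [hT₁]; abel
    rw [e, mul_sub, sub_mul, ← hT₀comm (n : G), ← hφ n, mul_assoc T₀, mul_assoc φ, hn, mul_one,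
      mul_one]
  set Q := P'.subgroupOf N with hQ
  have : Fintype (N ⧸ Q) := Fintype.ofFinite _
  refine ⟨T, (Q.index : k)⁻¹ • X₀, ?_⟩
  have hkey : ∑ n : N, act (n : G) * X₀ * act ((n : G)⁻¹) = (Q.index : k) • T' := by
    have hbij : Function.Bijective fun cq : (N ⧸ Q) × Q => cq.1.out * (cq.2 : N) := by
      refine ⟨fun a b h => ?_, fun n => ?_⟩
      · have h' : a.1.out * (a.2 : N) = b.1.out * (b.2 : N) := h
        have h1 : a.1 = b.1 := by
          have := congrArg (fun t : N => (t : N ⧸ Q)) h'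
          simpa [QuotientGroup.mk_mul_of_mem _ a.2.2, QuotientGroup.mk_mul_of_mem _ b.2.2] using this
        rw [h1] at h'
        exact Prod.ext h1 (Subtype.ext (mul_left_cancel h'))
      · exact ⟨((n : N ⧸ Q), ⟨(n : N ⧸ Q).out⁻¹ * n, QuotientGroup.eq.1 (by simp)⟩),
          mul_inv_cancel_left _ _⟩
    rw [← hbij.sum_comp, Fintype.sum_prod_type]
    simp only [Subgroup.coe_mul, mul_inv_rev, map_mul]
    have hsum : ∀ c : N ⧸ Q, ∑ q : Q, act ((c.out : N) : G) * act ((q : N) : G) * X₀ *
        (act (((q : N) : G)⁻¹) * act (((c.out : N) : G)⁻¹)) = T' := by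
      intro c
      have h2 : ∑ q : Q, act ((q : N) : G) * X₀ * act (((q : N) : G)⁻¹) = T' := by
        rw [← hdec]
        exact Fintype.sum_equiv (Subgroup.subgroupOfEquivOfLe hPN).toEquiv _ _ fun q => rfl
      conv_rhs => rw [← hT'comm c.out]
      rw [← h2, Finset.mul_sum, Finset.sum_mul]
      exact Finset.sum_congr rfl fun q _ => by simp only [mul_assoc]
    rw [Finset.sum_congr rfl fun c _ => hsum c, Finset.sum_const, Finset.card_univ,
      ← Nat.card_eq_fintype_card, Nat.cast_smul_eq_nsmul]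
    rfl
  simp only [mul_smul_comm, smul_mul_assoc, ← Finset.smul_sum]
  rw [hkey, smul_smul, inv_mul_cancel₀ hidx, one_smul]
  exact hT₁

/-- On a simple module only one weight has forms that are not traces, if equivariant
endomorphisms separate weights. -/
theorem false_of_two_weights [Finite G] [IsSimpleModule (MonoidAlgebra k G) S] (P' : Subgroup G)
    [Fintype P'] (hPN : P' ≤ N) (hfree : ∀ q ∈ P', q ≠ 1 → ∀ g : G, g⁻¹ * q * g ∈ N → g ∈ N)
    (hidx : ((P'.subgroupOf N).index : k) ≠ 0)
    {μ μ' : N →* k} {f f' : S →ₗ[k] k} (hf : IsWeight N μ f) (hf' : IsWeight N μ' f')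
    (hnf : ¬ IsTr μ f) (hnf' : ¬ IsTr μ' f')
    {φ : Module.End k S} (hφ : ∀ n : N, φ * act (n : G) = act (n : G) * φ)
    (hφf : f ∘ₗ φ = f) (hφf' : f' ∘ₗ φ = 0) : False := by
  obtain ⟨T, X, hT⟩ := exists_trace_endo P' hPN hfree hidx φ hφ
  have key : ∀ {ν : N →* k} {g : S →ₗ[k] k}, IsWeight N ν g →
      g ∘ₗ (∑ n : N, act (n : G) * X * act ((n : G)⁻¹) : Module.End k S) = trN ν (g ∘ₗ X) := by
    intro ν g hg
    refine LinearMap.ext fun v => ?_
    simp [trN_apply, LinearMap.sum_apply, map_sum, hg _ _]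
  rcases LinearMap.bijective_or_eq_zero T with hbij | h0
  · set Te := LinearEquiv.ofBijective T hbij with hTe
    refine hnf' ⟨(f' ∘ₗ X) ∘ₗ (Te.symm : S →ₗ[MonoidAlgebra k G] S).restrictScalars k, ?_⟩
    rw [← trN_comp, ← key hf']
    refine LinearMap.ext fun v => ?_
    have h1 := LinearMap.congr_fun hT (Te.symm v)
    have h2 : T (Te.symm v) = v := Te.apply_symm_apply v
    simp only [LinearMap.coe_restrictScalars, LinearMap.add_apply] at h1
    rw [h2] at h1
    have h3 := LinearMap.congr_fun hφf' (Te.symm v)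
    simp only [LinearMap.comp_apply, LinearMap.zero_apply] at h3
    conv_lhs => rw [h1]
    rw [map_add, h3, zero_add]
    rfl
  · refine hnf ⟨-(f ∘ₗ X), ?_⟩
    rw [h0, LinearMap.restrictScalars_zero] at hT
    have h1 : φ = -∑ n : N, act (n : G) * X * act ((n : G)⁻¹) := eq_neg_of_add_eq_zero_left hT.symm
    conv_lhs => rw [← hφf, h1, LinearMap.comp_neg, key hf]
    refine LinearMap.ext fun v => ?_
    simp [trN_apply]

/-- Separation of two weights by an equivariant endomorphism when `N` is generated by a normal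
`p'`-subgroup `K` acting trivially in the weights, a `p`-element and a `p'`-element. -/
theorem exists_separating_weights [FiniteDimensional k S] {p : ℕ} [Fact p.Prime] [CharP k p]
    (K : Subgroup G) [Fintype K] (hKN : K ≤ N) (hKn : ∀ n ∈ N, ∀ c ∈ K, n * c * n⁻¹ ∈ K)
    (hKp : (Nat.card K : k) ≠ 0) {x y : N} (hx : x ^ p = 1) {r e : ℕ}
    (hyx : y * x = x ^ r * y) (hye : ((y ^ e : N) : G) ∈ K) {ω : k} (hω : IsPrimitiveRoot ω e)
    (he : (e : k) ≠ 0)
    (hgen : ∀ n : N, ∃ (c : N) (i j : ℕ), (c : G) ∈ K ∧ n = c * x ^ i * y ^ j)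
    {μ μ' : N →* k} (hμK : ∀ c : N, (c : G) ∈ K → μ c = 1)
    (hμ'K : ∀ c : N, (c : G) ∈ K → μ' c = 1) (hμx : μ x = 1) (hμ'x : μ' x = 1) (hne : μ ≠ μ')
    {f f' : S →ₗ[k] k} (hf : IsWeight N μ f) (hf' : IsWeight N μ' f') :
    ∃ φ : Module.End k S, (∀ n : N, φ * act (n : G) = act (n : G) * φ) ∧
      f ∘ₗ φ = f ∧ f' ∘ₗ φ = 0 := by
  have hy : μ y ≠ μ' y := fun h => hne (MonoidHom.ext fun n => by
    obtain ⟨c, i, j, hc, rfl⟩ := hgen n
    simp [map_mul, map_pow, hμK c hc, hμ'K c hc, hμx, hμ'x, h])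
  set π : Module.End k S := (Nat.card K : k)⁻¹ • ∑ c : K, act (c : G) with hπ
  have hπn : ∀ n : N, π * act (n : G) = act (n : G) * π := by
    intro n
    rw [hπ, smul_mul_assoc, mul_smul_comm, Finset.sum_mul, Finset.mul_sum]
    congr 1
    refine (Fintype.sum_equiv
      { toFun := fun c : K => (⟨(n : G)⁻¹ * c * n, by
          simpa using hKn _ (inv_mem n.2) _ c.2⟩ : K)
        invFun := fun c : K => ⟨(n : G) * c * (n : G)⁻¹, hKn _ n.2 _ c.2⟩
        left_inv := fun c => Subtype.ext (by simp [mul_assoc])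
        right_inv := fun c => Subtype.ext (by simp [mul_assoc]) } _ _ fun c => ?_)
    rw [← map_mul, ← map_mul]
    simp [mul_assoc]
  have hπK : ∀ c : K, act (c : G) * π = π := by
    intro c
    rw [hπ, mul_smul_comm, Finset.mul_sum]
    congr 1
    refine Fintype.sum_equiv (Equiv.mulLeft c) _ _ fun d => ?_
    simp [← map_mul]
  have hππ : π * π = π := by
    conv_lhs => arg 1; rw [hπ]
    rw [smul_mul_assoc, Finset.sum_mul, Finset.sum_congr rfl fun c _ => hπK c, Finset.sum_const,
      Finset.card_univ, ← Nat.card_eq_fintype_card, ← Nat.cast_smul_eq_nsmul k, smul_smul,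
      inv_mul_cancel₀ hKp, one_smul]
  have hfπ : ∀ {ν : N →* k} {g : S →ₗ[k] k}, (∀ c : N, (c : G) ∈ K → ν c = 1) →
      IsWeight N ν g → g ∘ₗ π = g := by
    intro ν g hν hg
    refine LinearMap.ext fun v => ?_
    have h : ∀ c : K, g (act (k := k) (c : G) v) = g v := fun c => by
      rw [hg ⟨c, hKN c.2⟩ v, hν _ c.2, one_mul]
    simp only [hπ, LinearMap.comp_apply, LinearMap.smul_apply, LinearMap.sum_apply, map_smul,
      map_sum, h, Finset.sum_const, Finset.card_univ, ← Nat.card_eq_fintype_card, nsmul_eq_mul,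
      smul_eq_mul, inv_mul_cancel_left₀ hKp]
  set V₀ : Submodule k S := LinearMap.range π with hV₀
  have hinv : ∀ n : N, ∀ v ∈ V₀, act (k := k) (n : G) v ∈ V₀ := by
    rintro n _ ⟨v, rfl⟩
    exact ⟨act (n : G) v, LinearMap.congr_fun (hπn n) v⟩
  let ρ : N →* Module.End k V₀ :=
    { toFun := fun n => (act (n : G)).restrict (hinv n)
      map_one' := LinearMap.ext fun v => Subtype.ext (by simp)
      map_mul' := fun n m => LinearMap.ext fun v => Subtype.ext (by simp) }
  have hρK : ∀ c : N, (c : G) ∈ K → ρ c = 1 := by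
    intro c hc
    refine LinearMap.ext fun v => Subtype.ext ?_
    obtain ⟨w, hw⟩ := v.2
    show act (c : G) (v : S) = v
    rw [← hw]
    exact LinearMap.congr_fun (hπK ⟨c, hc⟩) w
  have hXp : (ρ x - 1) ^ p = 0 := by
    have h : (Polynomial.X - 1 : Polynomial k) ^ p = Polynomial.X ^ p - 1 := by
      rw [sub_pow_char, one_pow]
    have h2 := congrArg (Polynomial.aeval (ρ x)) h
    simp only [map_pow, map_sub, Polynomial.aeval_X, map_one] at h2
    rw [h2, ← map_pow, hx, map_one, sub_self]
  obtain ⟨φ₀, hφX, hφY, hφf, hφf'⟩ := exists_separating (p := p) hω he hXp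
    (by rw [← map_pow]; exact hρK _ hye)
    (show ρ y * ρ x = ρ x ^ r * ρ y by rw [← map_pow, ← map_mul, ← map_mul, hyx])
    (f := f ∘ₗ V₀.subtype) (f' := f' ∘ₗ V₀.subtype) hy
    (LinearMap.ext fun v => (hf x (v : S)).trans (by rw [hμx, one_mul]; rfl))
    (LinearMap.ext fun v => hf y (v : S))
    (LinearMap.ext fun v => (hf' x (v : S)).trans (by rw [hμ'x, one_mul]; rfl))
    (LinearMap.ext fun v => hf' y (v : S))
  have hφρ : ∀ n : N, φ₀ * ρ n = ρ n * φ₀ := by
    intro n
    obtain ⟨c, i, j, hc, rfl⟩ := hgen n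
    rw [map_mul, map_mul, hρK c hc, one_mul, map_pow, map_pow]
    exact ((show Commute φ₀ (ρ x) from hφX).pow_right i).mul_right
      ((show Commute φ₀ (ρ y) from hφY).pow_right j)
  refine ⟨V₀.subtype ∘ₗ φ₀ ∘ₗ π.rangeRestrict, fun n => ?_, ?_, ?_⟩
  · refine LinearMap.ext fun v => ?_
    have e : π.rangeRestrict (act (n : G) v) = ρ n (π.rangeRestrict v) :=
      Subtype.ext (LinearMap.congr_fun (hπn n) v)
    show ((φ₀ (π.rangeRestrict (act (n : G) v)) : V₀) : S) = _
    rw [e, ← Module.End.mul_apply, hφρ]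
    rfl
  · refine LinearMap.ext fun v => ?_
    exact (LinearMap.congr_fun hφf (π.rangeRestrict v)).trans
      (LinearMap.congr_fun (hfπ hμK hf) v)
  · exact LinearMap.ext fun v => LinearMap.congr_fun hφf' (π.rangeRestrict v)

/-- Traces of pairwise non-isomorphic simple modules are independent. -/
theorem exists_elt_trace [IsAlgClosed k] {ι : Type*} [Fintype ι] [DecidableEq ι]
    (V : ι → Type v) [∀ i, AddCommGroup (V i)] [∀ i, Module k (V i)]
    [∀ i, Module (MonoidAlgebra k G) (V i)] [∀ i, IsScalarTower k (MonoidAlgebra k G) (V i)]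
    [∀ i, FiniteDimensional k (V i)] [∀ i, IsSimpleModule (MonoidAlgebra k G) (V i)]
    (hne : ∀ i j, i ≠ j → ∀ T : V i →ₗ[MonoidAlgebra k G] V j, T = 0) (i₀ : ι) :
    ∃ a : MonoidAlgebra k G, ∀ i,
      LinearMap.trace k (V i) (Algebra.lsmul k k (V i) a) = if i = i₀ then 1 else 0 := by
  have hsem : IsSemisimpleModule (MonoidAlgebra k G) (∀ i, V i) :=
    isSemisimpleModule_of_isSemisimpleModule_submodule'
      (fun i => IsSemisimpleModule.congr
        (LinearEquiv.ofInjective (LinearMap.single (MonoidAlgebra k G) V i)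
          (Pi.single_injective i)).symm)
      (LinearMap.iSup_range_single (MonoidAlgebra k G) V)
  have hnt : ∀ i, Nontrivial (V i) := fun i => IsSimpleModule.nontrivial (MonoidAlgebra k G) (V i)
  obtain ⟨b⟩ : Nonempty (Module.Basis (Fin (Module.finrank k (V i₀))) k (V i₀)) :=
    ⟨Module.finBasis k (V i₀)⟩
  have hpos : 0 < Module.finrank k (V i₀) := Module.finrank_pos
  set E : Module.End k (V i₀) := (b.coord ⟨0, hpos⟩).smulRight (b ⟨0, hpos⟩) with hE
  let F : (∀ i, V i) →ₗ[k] (∀ i, V i) :=
    LinearMap.single k V i₀ ∘ₗ E ∘ₗ LinearMap.proj i₀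
  have hscalar : ∀ (u : Module.End (MonoidAlgebra k G) (∀ i, V i)) (i : ι), ∃ c : k,
      ∀ x : ∀ i, V i, u x i = c • x i := by
    intro u i
    set ui : V i →ₗ[MonoidAlgebra k G] V i :=
      LinearMap.proj i ∘ₗ u ∘ₗ LinearMap.single (MonoidAlgebra k G) V i with hui
    obtain ⟨c, hc⟩ := Module.End.exists_eigenvalue (ui.restrictScalars k)
    obtain ⟨v, hv⟩ := hc.exists_hasEigenvector
    refine ⟨c, fun x => ?_⟩
    have hzero : ui - c • LinearMap.id = 0 :=
      (LinearMap.bijective_or_eq_zero _).resolve_left fun hb => hv.2 (hb.1 (by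
        simp only [LinearMap.sub_apply, LinearMap.smul_apply, LinearMap.id_apply, map_zero,
          smul_zero, sub_zero]
        rw [sub_eq_zero]
        exact hv.apply_eq_smul))
    have hdec : u x = ∑ j, u (LinearMap.single (MonoidAlgebra k G) V j (x j)) := by
      rw [← map_sum]
      congr 1
      exact (Finset.univ_sum_single x).symm
    rw [hdec, Finset.sum_apply, Finset.sum_eq_single i]
    · have := LinearMap.congr_fun hzero (x i)
      simp only [LinearMap.sub_apply, LinearMap.smul_apply, LinearMap.id_apply,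
        LinearMap.zero_apply, sub_eq_zero] at this
      exact this
    · intro j _ hj
      exact LinearMap.congr_fun (hne j i hj
        (LinearMap.proj i ∘ₗ u ∘ₗ LinearMap.single (MonoidAlgebra k G) V j)) (x j)
    · intro h; exact absurd (Finset.mem_univ i) h
  let F' : Module.End (Module.End (MonoidAlgebra k G) (∀ i, V i)) (∀ i, V i) :=
    { toFun := F
      map_add' := map_add F
      map_smul' := fun u x => by
        funext i
        obtain ⟨c, hc⟩ := hscalar u i
        obtain ⟨c₀, hc₀⟩ := hscalar u i₀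
        simp only [RingHom.id_apply, Module.End.smul_def, hc]
        by_cases hi : i = i₀
        · subst hi
          simp [F, hc₀, hc]
          rw [← map_smul, ← map_smul, ← hc₀, ← hc]
        · simp [F, Pi.single_eq_of_ne hi] }
  let bs := Module.finBasis k (∀ i, V i)
  classical
  obtain ⟨a, ha⟩ := jacobson_density F' (Finset.univ.image bs)
  have hall : ∀ x : ∀ i, V i, a • x = F x := by
    have hlin : (Algebra.lsmul k k (∀ i, V i) a : Module.End k (∀ i, V i)) = F :=
      bs.ext fun j => (ha _ (Finset.mem_image.2 ⟨j, Finset.mem_univ _, rfl⟩)).symm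
    exact fun x => LinearMap.congr_fun hlin x
  refine ⟨a, fun i => ?_⟩
  have hi : ∀ v : V i, a • v = F (Pi.single i v) i := fun v => by
    rw [← hall]
    simp
  split_ifs with h
  · subst h
    have e : (Algebra.lsmul k k (V i) a : Module.End k (V i)) = E := LinearMap.ext fun v => by
      show a • v = E v
      rw [hi v]
      simp [F]
    rw [e, hE, LinearMap.trace_smulRight]
    simp
  · have e : (Algebra.lsmul k k (V i) a : Module.End k (V i)) = 0 := LinearMap.ext fun v => by
      show a • v = 0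
      rw [hi v]
      simp [F, Pi.single_eq_of_ne h]
    rw [e, map_zero]

end Cfsg.Agent.BlockThms.OrderP
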