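import Mathlib
import Cfsg.Agent.BlockThms.OrderP.Stable
import Cfsg.Agent.BlockThms.OrderP.Setup
import Cfsg.Agent.BlockThms.OrderP.Residue
import Cfsg.Agent.BlockThms.SecondMainIdem
import Cfsg.Agent.Blocks.Principal
import Cfsg.Agent.Blocks.FixedPoints
import Cfsg.Agent.Invol.SectionInduce

/-!
# The principal block has at least `e` Brauer characters

If the restrictions to regular elements of the characters of the principal block lie in the span
of `T`, then `e ≤ |T|`: for each of the `e` linear characters of `N(P)/C(P)` there is a simple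
module of the block with a weight form that is not a relative trace, no simple module serves two
of them, and the traces of non-isomorphic simple modules are independent.
-/

set_option autoImplicit false

namespace Cfsg.Agent.BlockThms.OrderP

open scoped ComplexConjugate
open Cfsg.Agent Cfsg.Agent.Blocks

universe u v

attribute [local instance] Ideal.Quotient.field

variable {G : Type u} [Group G] [Fintype G] {p : ℕ} {M : Ideal Cfsg.AlgInt} [M.IsMaximal]

omit [Fintype G] [M.IsMaximal] in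
/-- A unipotent factor does not change the trace. -/
theorem trace_unipotent_mul {k S : Type*} [Field k] [Fact p.Prime] [CharP k p] [AddCommGroup S]
    [Module k S] [FiniteDimensional k S] {U Y : Module.End k S} {j : ℕ} (hu : U ^ (p ^ j) = 1)
    (hc : Commute U Y) : LinearMap.trace k S (U * Y) = LinearMap.trace k S Y := by
  have h : (Polynomial.X - 1 : Polynomial k) ^ (p ^ j) = Polynomial.X ^ (p ^ j) - 1 := by
    rw [sub_pow_char_pow, one_pow]
  have h2 := congrArg (Polynomial.aeval U) h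
  simp only [map_pow, map_sub, Polynomial.aeval_X, map_one] at h2
  have hnil : IsNilpotent ((U - 1) * Y) :=
    ⟨p ^ j, by rw [(hc.sub_left (Commute.one_left Y)).mul_pow, h2, hu, sub_self, zero_mul]⟩
  have h0 := (LinearMap.isNilpotent_trace_of_isNilpotent hnil).eq_zero
  rwa [sub_mul, one_mul, map_sub, sub_eq_zero] at h0

/-- The residue of the idempotent of the principal block. -/
noncomputable def blockElt (hM : Cfsg.IsPModular p M) :
    MonoidAlgebra (Cfsg.AlgInt ⧸ M) G :=
  ∑ g : G, MonoidAlgebra.single g (resFun hM (Cfsg.blockCoeff (Cfsg.principalBlock M G) g))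

theorem coeff_blockElt (hM : Cfsg.IsPModular p M) (g : G) :
    (blockElt (G := G) hM).coeff g = resFun hM (Cfsg.blockCoeff (Cfsg.principalBlock M G) g) := by
  classical
  rw [blockElt, MonoidAlgebra.coeff_sum, Finsupp.finsetSum_apply]
  simp [Finsupp.single_apply]

theorem blockElt_mul_self (hM : Cfsg.IsPModular p M) :
    blockElt (G := G) hM * blockElt hM = blockElt hM := by
  classical
  have hR := memLocalRing_blockCoeff hM (isPBlock_principalBlock (G := G) M)
  set a := Cfsg.blockCoeff (Cfsg.principalBlock M G) with ha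
  refine MonoidAlgebra.coeff_injective (Finsupp.ext fun z => ?_)
  conv_lhs => arg 1; arg 1; arg 1; rw [blockElt]
  rw [Finset.sum_mul, MonoidAlgebra.coeff_sum, Finsupp.finsetSum_apply]
  simp only [MonoidAlgebra.coeff_single_mul_apply, coeff_blockElt, ← ha]
  conv_rhs => rw [ha, ← blockCoeff_conv (Cfsg.principalBlock M G), ← ha]
  show _ = resFun hM (∑ g, a g * a (g⁻¹ * z))
  rw [resFun_sum hM _ fun g _ => (localRing hM).mul_mem (hR g) (hR _)]
  exact Finset.sum_congr rfl fun g _ => (resFun_mul hM (hR g) (hR _)).symm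

theorem blockElt_comm (hM : Cfsg.IsPModular p M) (x : MonoidAlgebra (Cfsg.AlgInt ⧸ M) G) :
    blockElt hM * x = x * blockElt hM := by
  classical
  induction x using MonoidAlgebra.induction_on with
  | of g =>
    refine MonoidAlgebra.coeff_injective (Finsupp.ext fun z => ?_)
    simp only [MonoidAlgebra.of_apply, MonoidAlgebra.coeff_single_mul_apply,
      MonoidAlgebra.coeff_mul_single_apply, coeff_blockElt, one_mul, mul_one]
    rw [← isClassFunction_blockCoeff (Cfsg.principalBlock M G) (g⁻¹ * z) g]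
    congr 2
    group
  | add x y hx hy => rw [mul_add, add_mul, hx, hy]
  | smul r x hx => rw [mul_smul_comm, smul_mul_assoc, hx]

section Trace

variable {S : Type v} [AddCommGroup S] [Module (Cfsg.AlgInt ⧸ M) S]
  [Module (MonoidAlgebra (Cfsg.AlgInt ⧸ M) G) S]
  [IsScalarTower (Cfsg.AlgInt ⧸ M) (MonoidAlgebra (Cfsg.AlgInt ⧸ M) G) S]

/-- The trace of a group element on a module. -/
noncomputable def tr (M : Ideal Cfsg.AlgInt) [M.IsMaximal] (S : Type v) [AddCommGroup S] [Module (Cfsg.AlgInt ⧸ M) S]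
    [Module (MonoidAlgebra (Cfsg.AlgInt ⧸ M) G) S]
    [IsScalarTower (Cfsg.AlgInt ⧸ M) (MonoidAlgebra (Cfsg.AlgInt ⧸ M) G) S] (g : G) :
    Cfsg.AlgInt ⧸ M :=
  LinearMap.trace (Cfsg.AlgInt ⧸ M) S (act g)

theorem trace_lsmul_eq (a : MonoidAlgebra (Cfsg.AlgInt ⧸ M) G) :
    LinearMap.trace (Cfsg.AlgInt ⧸ M) S (Algebra.lsmul (Cfsg.AlgInt ⧸ M) (Cfsg.AlgInt ⧸ M) S a) =
      ∑ g, a.coeff g * tr M S g := by
  classical
  induction a using MonoidAlgebra.induction_on with
  | of h =>
    rw [Finset.sum_eq_single h]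
    · simp [tr, act]
    · intro g _ hg
      simp [Finsupp.single_apply, hg.symm]
    · simp
  | add x y hx hy =>
    rw [map_add, map_add, hx, hy, ← Finset.sum_add_distrib]
    exact Finset.sum_congr rfl fun g _ => by rw [MonoidAlgebra.coeff_add, Finsupp.add_apply, add_mul]
  | smul r x hx =>
    rw [map_smul, map_smul, hx, smul_eq_mul, Finset.mul_sum]
    exact Finset.sum_congr rfl fun g _ => by
      rw [MonoidAlgebra.coeff_smul_apply, smul_eq_mul, mul_assoc]

theorem tr_conj (g c : G) : tr M S (c * g * c⁻¹) = tr M S g := by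
  rw [tr, tr, map_mul, LinearMap.trace_mul_comm, ← map_mul]
  congr 2
  group

theorem tr_pPrimePartOf [Fact p.Prime] (hM : Cfsg.IsPModular p M)
    [FiniteDimensional (Cfsg.AlgInt ⧸ M) S] (g : G) :
    tr M S g = tr M S (pPrimePartOf p g) := by
  have hp : p.Prime := Fact.out
  have := charP_residueField hM
  obtain ⟨j, hj⟩ := orderOf_pPartOf hp g
  have hu : act (k := Cfsg.AlgInt ⧸ M) (S := S) (pPartOf p g) ^ (p ^ j) = 1 := by
    rw [← map_pow, ← hj, pow_orderOf_eq_one, map_one]
  set U := act (k := Cfsg.AlgInt ⧸ M) (S := S) (pPartOf p g) with hU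
  set Y := act (k := Cfsg.AlgInt ⧸ M) (S := S) (pPrimePartOf p g) with hY
  have hc : Commute U Y := by
    rw [hU, hY, Commute, SemiconjBy, ← map_mul, ← map_mul, (commute_pPartOf_pPrimePartOf g).eq]
  show _ = LinearMap.trace (Cfsg.AlgInt ⧸ M) S Y
  rw [← trace_unipotent_mul (p := p) hu hc, hU, hY, ← map_mul, pPartOf_mul_pPrimePartOf hp]
  rfl

/-- On a module of the block the trace is a combination of the reduced characters of the block. -/
theorem exists_tr_eq [Fact p.Prime] (hM : Cfsg.IsPModular p M)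
    [FiniteDimensional (Cfsg.AlgInt ⧸ M) S] (hε : ∀ v : S, blockElt (G := G) hM • v = v)
    [DecidablePred fun χ : Cfsg.IrrCharacter G => χ ∈ Cfsg.principalBlock M G] :
    ∃ m : Cfsg.IrrCharacter G → Cfsg.AlgInt ⧸ M, ∀ g : G, tr M S g =
      ∑ χ : Cfsg.IrrCharacter G, if χ ∈ Cfsg.principalBlock M G
        then m χ * resFun hM ((χ : G → ℂ) g) else 0 := by
  classical
  have hR := memLocalRing_blockCoeff hM (isPBlock_principalBlock (G := G) M)
  set a := Cfsg.blockCoeff (Cfsg.principalBlock M G) with ha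
  let L : Cfsg.AlgInt ⧸ M → Cfsg.AlgInt := Function.surjInv Ideal.Quotient.mk_surjective
  set F : G → ℂ := fun g => (L (tr M S (pPrimePartOf p g)) : ℂ) with hF
  have hFc : Cfsg.IsClassFunction G F := fun g c => by
    simp only [hF, pPrimePartOf_conj', tr_conj]
  have hFR : ∀ g, Cfsg.MemLocalRing M (F g) := fun g => memLocalRing_coe hM _
  have hFp : ∀ g, F g = F (pPrimePartOf p g) := fun g => by
    simp only [hF]
    rw [pPrimePartOf_self (not_dvd_orderOf_pPrimePartOf Fact.out g)]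
  set c : Cfsg.IrrCharacter G → ℂ := fun χ => Cfsg.classInner F (χ : G → ℂ) with hc
  have hcR : ∀ χ, Cfsg.MemLocalRing M (c χ) := fun χ =>
    memLocalRing_classInner_pPrime hM hFc hFR hFp (Char.IsIrr.isCharacter χ.2)
  have hχR : ∀ (χ : Cfsg.IrrCharacter G) g, Cfsg.MemLocalRing M ((χ : G → ℂ) g) := fun χ g =>
    memLocalRing_char hM (Char.IsIrr.isCharacter χ.2) g
  refine ⟨fun χ => resFun hM (c χ), fun g => ?_⟩
  have htr : ∀ x, tr M S x = ∑ χ : Cfsg.IrrCharacter G, resFun hM (c χ) *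
      resFun hM ((χ : G → ℂ) x) := fun x => by
    rw [tr_pPrimePartOf (p := p) hM x]
    calc tr M S (pPrimePartOf p x) = resFun hM (F x) := by
          rw [hF, resFun_coe]; exact (Function.surjInv_eq _ _).symm
      _ = resFun hM (∑ χ : Cfsg.IrrCharacter G, c χ * (χ : G → ℂ) x) := by
          rw [Invol.apply_eq_sum hFc x]
      _ = _ := by
          rw [resFun_sum hM _ fun χ _ => (localRing hM).mul_mem (hcR χ) (hχR χ x)]
          exact Finset.sum_congr rfl fun χ _ => resFun_mul hM (hcR χ) (hχR χ x)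
  have hmul : tr M S g = ∑ h, resFun hM (a h) * tr M S (h * g) := by
    have e1 : tr M S g = LinearMap.trace (Cfsg.AlgInt ⧸ M) S
        (Algebra.lsmul (Cfsg.AlgInt ⧸ M) (Cfsg.AlgInt ⧸ M) S
          (blockElt hM * MonoidAlgebra.of _ G g)) := by
      rw [tr]
      congr 1
      refine LinearMap.ext fun v => ?_
      show _ = (blockElt hM * MonoidAlgebra.of _ G g) • v
      rw [mul_smul, hε, act_apply]
    rw [e1, trace_lsmul_eq]
    refine (Fintype.sum_equiv (Equiv.mulRight g) _ _ fun h => ?_).symm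
    simp [coeff_blockElt, ha, MonoidAlgebra.of_apply]
  rw [hmul]
  simp only [htr, Finset.mul_sum]
  rw [Finset.sum_comm]
  refine Finset.sum_congr rfl fun χ _ => ?_
  simp only [mul_left_comm _ (resFun hM (c χ)), ← Finset.mul_sum]
  have e2 : ∑ h, resFun hM (a h) * resFun hM ((χ : G → ℂ) (h * g)) =
      resFun hM ((if χ ∈ Cfsg.principalBlock M G then 1 else 0) * (χ : G → ℂ) g) := by
    rw [← omega_blockCoeff, ← sum_mul_char_mul χ.2 (isClassFunction_blockCoeff _), ← ha,
      resFun_sum hM _ fun h _ => (localRing hM).mul_mem (hR h) (hχR χ _)]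
    exact Finset.sum_congr rfl fun h _ => (resFun_mul hM (hR h) (hχR χ _)).symm
  rw [e2]
  split_ifs
  · rw [one_mul]
  · rw [zero_mul, (resFun_eq_zero_iff hM (localRing hM).zero_mem).2 (memLocalIdeal_zero hM),
      mul_zero]

end Trace

variable [Fact p.Prime] {P : Sylow p G} {e : ℕ} (hS : Setup P e)
include hS

open scoped Classical in
theorem Setup.sum_centralizer_notMem (hM : Cfsg.IsPModular p M) :
    ¬ Cfsg.MemLocalIdeal M (∑ c : Subgroup.centralizer (P : Set G),
      Cfsg.blockCoeff (Cfsg.principalBlock M G) (c : G)) := by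
  have hH : ∀ a : G, a ∈ Subgroup.centralizer (P : Set G) ↔
      ∀ u ∈ (P : Subgroup G), u * a = a * u := fun a => Subgroup.mem_centralizer_iff
  have h := triv_mem_principalBlock (G := Subgroup.centralizer (P : Set G)) hM
  rw [← inducing_principalBlock hM P.2 hH] at h
  simpa [inducing, Blocks.omega, triv] using h

open scoped Classical in
/-- Each linear character of `N(P)/C(P)` is realised by a simple module of the block. -/
theorem Setup.exists_weight_module (hM : Cfsg.IsPModular p M)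
    (μ : Subgroup.normalizer (P : Set G) →* (Cfsg.AlgInt ⧸ M))
    (hμ : ∀ n : Subgroup.normalizer (P : Set G),
      (n : G) ∈ Subgroup.centralizer (P : Set G) → μ n = 1) :
    ∃ (T : SimpleMod.{u, u, 0} (Cfsg.AlgInt ⧸ M) G (blockElt hM))
      (f : T.V →ₗ[Cfsg.AlgInt ⧸ M] (Cfsg.AlgInt ⧸ M)),
      IsWeight (Subgroup.normalizer (P : Set G)) μ f ∧ ¬ IsTr μ f := by
  by_contra hcon
  push Not at hcon
  have := charP_residueField hM
  set ε := blockElt (G := G) hM with hεdef
  have hinv : ∀ n : ↥(Subgroup.normalizer (P : Set G)), μ n⁻¹ * μ n = 1 := fun n => by rw [← map_mul, inv_mul_cancel, map_one]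
  let X : Submodule (MonoidAlgebra (Cfsg.AlgInt ⧸ M) G) (MonoidAlgebra (Cfsg.AlgInt ⧸ M) G) :=
    { carrier := {w | (∀ (g : G) (n : ↥(Subgroup.normalizer (P : Set G))), w.coeff (g * n) = μ n⁻¹ * w.coeff g) ∧ ε * w = w}
      add_mem' := fun {w w'} hw hw' => ⟨fun g n => by
        simp [hw.1 g n, hw'.1 g n, mul_add], by rw [mul_add, hw.2, hw'.2]⟩
      zero_mem' := ⟨fun g n => by simp, mul_zero _⟩
      smul_mem' := fun a w hw => ⟨fun g n => by
        show (a * w).coeff (g * n) = μ n⁻¹ * (a * w).coeff g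
        induction a using MonoidAlgebra.induction_on generalizing g with
        | of h =>
          simp only [MonoidAlgebra.of_apply, MonoidAlgebra.coeff_single_mul_apply, one_mul]
          rw [← mul_assoc]
          exact hw.1 _ n
        | add x y hx hy =>
          simp only [add_mul, MonoidAlgebra.coeff_add, Finsupp.add_apply, hx, hy, mul_add]
        | smul r x hx =>
          simp only [smul_mul_assoc, MonoidAlgebra.coeff_smul_apply, smul_eq_mul, hx]
          ring, by
        show ε * (a * w) = a * w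
        rw [← mul_assoc, hεdef, blockElt_comm, mul_assoc, ← hεdef, hw.2]⟩ }
  have : Module.Finite (Cfsg.AlgInt ⧸ M) (MonoidAlgebra (Cfsg.AlgInt ⧸ M) G) :=
    Module.Finite.of_basis (MonoidAlgebra.basis G (Cfsg.AlgInt ⧸ M))
  have : FiniteDimensional (Cfsg.AlgInt ⧸ M) X :=
    inferInstanceAs (FiniteDimensional (Cfsg.AlgInt ⧸ M) (X.restrictScalars (Cfsg.AlgInt ⧸ M)))
  let f : X →ₗ[Cfsg.AlgInt ⧸ M] (Cfsg.AlgInt ⧸ M) :=
    { toFun := fun w => (w : MonoidAlgebra (Cfsg.AlgInt ⧸ M) G).coeff 1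
      map_add' := fun w w' => by simp
      map_smul' := fun r w => by simp }
  have hf : IsWeight (Subgroup.normalizer (P : Set G)) μ f := by
    intro n w
    show ((MonoidAlgebra.of _ G (n : G)) * (w : MonoidAlgebra (Cfsg.AlgInt ⧸ M) G)).coeff 1 =
      μ n * (w : MonoidAlgebra (Cfsg.AlgInt ⧸ M) G).coeff 1
    rw [MonoidAlgebra.of_apply, MonoidAlgebra.coeff_single_mul_apply, one_mul, mul_one]
    have h := w.2.1 1 n⁻¹
    rw [inv_inv, one_mul] at h
    simpa using h
  obtain ⟨h, hh⟩ := isTr_of_simples hcon _ X le_rfl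
    (fun w => Subtype.ext (by
      show ε * (w : MonoidAlgebra (Cfsg.AlgInt ⧸ M) G) = w
      exact w.2.2)) f hf
  -- the vector
  set E : MonoidAlgebra (Cfsg.AlgInt ⧸ M) G :=
    ∑ n : ↥(Subgroup.normalizer (P : Set G)), MonoidAlgebra.single (n : G) (μ n⁻¹) with hE
  have hleft : ∀ n : ↥(Subgroup.normalizer (P : Set G)), MonoidAlgebra.single (n : G) 1 * E = μ n • E := by
    intro n
    rw [hE, Finset.mul_sum, Finset.smul_sum]
    refine Fintype.sum_equiv (Equiv.mulLeft n) _ _ fun m => ?_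
    rw [MonoidAlgebra.single_mul_single, MonoidAlgebra.smul_single', one_mul]
    congr 1
    simp only [Equiv.coe_mulLeft, mul_inv_rev, map_mul]
    rw [mul_left_comm, mul_comm (μ n), hinv, mul_one]
  have hright : ∀ n : ↥(Subgroup.normalizer (P : Set G)), E * MonoidAlgebra.single (n : G) 1 = μ n • E := by
    intro n
    rw [hE, Finset.sum_mul, Finset.smul_sum]
    refine Fintype.sum_equiv (Equiv.mulRight n) _ _ fun m => ?_
    rw [MonoidAlgebra.single_mul_single, MonoidAlgebra.smul_single', mul_one]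
    congr 1
    simp only [Equiv.coe_mulRight, mul_inv_rev, map_mul]
    rw [← mul_assoc, mul_comm (μ n), hinv, one_mul]
  have hεE : ε * (ε * E) = ε * E := by rw [← mul_assoc, hεdef, blockElt_mul_self]
  have hvX : ε * E ∈ X := by
    refine ⟨fun g n => ?_, hεE⟩
    have h1 := congrArg (fun w : MonoidAlgebra (Cfsg.AlgInt ⧸ M) G => w.coeff (g * n))
      (mul_assoc ε E (MonoidAlgebra.single (n : G) 1))
    simp only [hright, mul_smul_comm, MonoidAlgebra.coeff_mul_single_apply,
      mul_inv_cancel_right, mul_one, MonoidAlgebra.coeff_smul_apply, smul_eq_mul] at h1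
    rw [h1, ← mul_assoc, hinv, one_mul]
  set v₀ : X := ⟨ε * E, hvX⟩ with hv₀
  have hz : f v₀ = 0 := by
    rw [hh, trN_apply]
    have e1 : ∀ n : ↥(Subgroup.normalizer (P : Set G)), μ n * h (act ((n : G)⁻¹) v₀) = h v₀ := fun n => by
      have e2 : act (k := Cfsg.AlgInt ⧸ M) ((n : G)⁻¹) v₀ = μ n⁻¹ • v₀ := Subtype.ext (by
        show MonoidAlgebra.single ((n : G)⁻¹) 1 * (ε * E) = μ n⁻¹ • (ε * E)
        rw [← mul_assoc, hεdef, ← blockElt_comm, mul_assoc, ← mul_smul_comm]
        exact congrArg _ (hleft n⁻¹))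
      rw [e2, map_smul, smul_eq_mul, ← mul_assoc, mul_comm (μ n), hinv, one_mul]
    rw [Finset.sum_congr rfl fun n _ => e1 n, Finset.sum_const, Finset.card_univ,
      ← Nat.card_eq_fintype_card, hS.card_normalizer, nsmul_eq_mul]
    have hdvd : p ∣ e * Nat.card (Subgroup.centralizer (P : Set G)) := by
      obtain ⟨K, -, -, -, -, hc, -⟩ := hS.exists_complement
      rw [hc]
      exact Dvd.dvd.mul_left (dvd_mul_right _ _) _
    rw [(CharP.cast_eq_zero_iff (Cfsg.AlgInt ⧸ M) p _).2 hdvd, zero_mul]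
  -- the value of the form
  have hval : f v₀ = ∑ n : ↥(Subgroup.normalizer (P : Set G)),
      resFun hM (Cfsg.blockCoeff (Cfsg.principalBlock M G) (n : G)) * μ n := by
    show (ε * E).coeff 1 = _
    rw [hE, Finset.mul_sum, MonoidAlgebra.coeff_sum, Finsupp.finsetSum_apply]
    refine Fintype.sum_equiv (Equiv.inv ↥(Subgroup.normalizer (P : Set G))) _ _ fun n => ?_
    rw [MonoidAlgebra.coeff_mul_single_apply, hεdef, coeff_blockElt, one_mul]
    simp
  -- reduce to the centralizer
  let L : Cfsg.AlgInt ⧸ M → Cfsg.AlgInt := Function.surjInv Ideal.Quotient.mk_surjective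
  set a := Cfsg.blockCoeff (Cfsg.principalBlock M G) with ha
  have haR := memLocalRing_blockCoeff hM (isPBlock_principalBlock (G := G) M)
  set φ : ↥(Subgroup.normalizer (P : Set G)) → ℂ := fun n => a (n : G) * (L (μ n) : ℂ) with hφ
  have hφR : ∀ n, Cfsg.MemLocalRing M (φ n) := fun n =>
    (localRing hM).mul_mem (haR _) (memLocalRing_coe hM _)
  have hred : ∀ n, resFun hM (φ n) = resFun hM (a (n : G)) * μ n := fun n => by
    rw [hφ, resFun_mul hM (haR _) (memLocalRing_coe hM _), resFun_coe]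
    exact congrArg _ (Function.surjInv_eq _ _)
  letI : MulAction (P : Subgroup G) ↥(Subgroup.normalizer (P : Set G)) := MulAction.compHom ↥(Subgroup.normalizer (P : Set G))
    ((MulAut.conj : ↥(Subgroup.normalizer (P : Set G)) →* MulAut ↥(Subgroup.normalizer (P : Set G))).comp
      (Subgroup.inclusion (Subgroup.le_normalizer (H := (P : Subgroup G)))))
  have hsm : ∀ (x : (P : Subgroup G)) (n : ↥(Subgroup.normalizer (P : Set G))),
      x • n = Subgroup.inclusion Subgroup.le_normalizer x * n *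
        (Subgroup.inclusion Subgroup.le_normalizer x)⁻¹ := fun _ _ => rfl
  have hinvφ : ∀ (x : (P : Subgroup G)) (n : ↥(Subgroup.normalizer (P : Set G))), φ (x • n) = φ n := by
    intro x n
    simp only [hφ, hsm]
    have e1 : μ (Subgroup.inclusion Subgroup.le_normalizer x * n *
        (Subgroup.inclusion Subgroup.le_normalizer x)⁻¹) = μ n := by
      rw [map_mul, map_mul, mul_right_comm, ← map_mul, mul_inv_cancel, map_one, one_mul]
    rw [e1]
    congr 1
    exact isClassFunction_blockCoeff _ (n : G) (x : G)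
  have hkey := memLocalIdeal_sum_sub_fixed hM P.2 φ hφR hinvφ
  have hfixC : ∀ n : ↥(Subgroup.normalizer (P : Set G)), n ∈ MulAction.fixedPoints (P : Subgroup G) ↥(Subgroup.normalizer (P : Set G)) ↔
      (n : G) ∈ Subgroup.centralizer (P : Set G) := by
    intro n
    rw [Subgroup.mem_centralizer_iff]
    constructor
    · intro h u hu
      have h1 := congrArg Subtype.val (h ⟨u, hu⟩)
      rw [hsm] at h1
      exact mul_inv_eq_iff_eq_mul.1 h1
    · intro h x
      rw [hsm]
      exact mul_inv_eq_iff_eq_mul.2 (Subtype.ext (h x x.2))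
  set F := Finset.univ.filter (· ∈ MulAction.fixedPoints (P : Subgroup G) ↥(Subgroup.normalizer (P : Set G))) with hF
  have hR2 : Cfsg.MemLocalRing M (∑ n, φ n) := (localRing hM).sum_mem fun n _ => hφR n
  have h1 : resFun hM (∑ n ∈ F, φ n) = 0 := by
    have e1 : resFun hM (∑ n, φ n) = 0 := by
      rw [resFun_sum hM _ fun n _ => hφR n, Finset.sum_congr rfl fun n _ => hred n, ← hval, hz]
    refine (resFun_eq_zero_iff hM ((localRing hM).sum_mem fun n _ => hφR n)).2 ?_
    have h2 := memLocalIdeal_sub hM ((resFun_eq_zero_iff hM hR2).1 e1) hkey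
    rwa [sub_sub_cancel] at h2
  refine hS.sum_centralizer_notMem hM
    ((resFun_eq_zero_iff hM ((localRing hM).sum_mem fun c _ => haR _)).1 ?_)
  rw [← h1, resFun_sum hM _ fun c _ => haR _, resFun_sum hM _ fun n _ => hφR n]
  refine Finset.sum_bij
    (fun c _ => (⟨(c : G), Subgroup.centralizer_le_normalizer _ c.2⟩ : ↥(Subgroup.normalizer (P : Set G)))) ?_ ?_ ?_ ?_
  · intro c _
    exact Finset.mem_filter.2 ⟨Finset.mem_univ _, (hfixC _).2 c.2⟩
  · intro a _ b _ h
    exact Subtype.ext (congrArg (fun n : ↥(Subgroup.normalizer (P : Set G)) => (n : G)) h)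
  · intro n hn
    exact ⟨⟨(n : G), (hfixC n).1 (Finset.mem_filter.1 hn).2⟩, Finset.mem_univ _, rfl⟩
  · intro c _
    rw [hred, hμ _ c.2, mul_one]

/-- The principal block has at least `e` Brauer characters. -/
theorem Setup.le_card_of_span (hM : Cfsg.IsPModular p M) (T : Finset (Cfsg.IrrCharacter G))
    (hT : ∀ χ ∈ Cfsg.principalBlock M G, ∃ c : Cfsg.IrrCharacter G → ℤ,
      ∀ y : G, ¬ p ∣ orderOf y →
        (χ : G → ℂ) y = ∑ ψ ∈ T, (c ψ : ℂ) * (ψ : G → ℂ) y) :
    e ≤ T.card := by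
  classical
  have hp : p.Prime := Fact.out
  have := charP_residueField hM
  have := isAlgClosed_residue (M := M)
  set N := Subgroup.normalizer (P : Set G) with hN
  set C := Subgroup.centralizer (P : Set G) with hC
  have hPC := hS.le_centralizer
  have hPN : (P : Subgroup G) ≤ N := hPC.trans (Subgroup.centralizer_le_normalizer _)
  obtain ⟨hdvd, y, hy, hgen, hye, hyp⟩ := hS.exists_y
  obtain ⟨K, hKC, hKp, hKmem, hKn, -, hKP⟩ := hS.exists_complement
  obtain ⟨x, hx, hx1, hxo⟩ := hS.exists_gen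
  obtain ⟨r, hr⟩ := orderOf_dvd_sub_one hS hy hx hx1
  have he0 : (e : Cfsg.AlgInt ⧸ M) ≠ 0 := by
    rw [Ne, CharP.cast_eq_zero_iff (Cfsg.AlgInt ⧸ M) p]
    intro h
    have h2 := Nat.le_of_dvd (Nat.sub_pos_of_lt hp.one_lt) (h.trans hdvd)
    have h3 := hp.pos
    omega
  have : NeZero (e : Cfsg.AlgInt ⧸ M) := ⟨he0⟩
  obtain ⟨ω, hω⟩ := HasEnoughRootsOfUnity.exists_primitiveRoot (Cfsg.AlgInt ⧸ M) e
  -- the characters of N/C
  choose i hi using fun n : N => hgen n n.2
  have hCn : ∀ n ∈ N, ∀ c ∈ C, n * c * n⁻¹ ∈ C := by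
    intro n hn c hc
    rw [hC, Subgroup.mem_centralizer_iff]
    intro v hv
    have h3 : n⁻¹ * v * n⁻¹⁻¹ ∈ (P : Subgroup G) := hS.conj_mem hv (inv_mem hn)
    rw [inv_inv] at h3
    have h4 := Subgroup.mem_centralizer_iff.1 hc _ h3
    calc v * (n * c * n⁻¹) = n * ((n⁻¹ * v * n) * c) * n⁻¹ := by group
      _ = n * (c * (n⁻¹ * v * n)) * n⁻¹ := by rw [h4]
      _ = n * c * n⁻¹ * v := by group
  have hwd : ∀ (n : G) (a b : ℕ), n * (y ^ a)⁻¹ ∈ C → n * (y ^ b)⁻¹ ∈ C → ω ^ a = ω ^ b := by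
    intro n a b ha hb
    wlog hab : a ≤ b generalizing a b
    · exact (this b a hb ha (le_of_not_ge hab)).symm
    have h1 : y ^ (b - a) ∈ C := by
      have h2 := hCn _ (inv_mem (pow_mem hy a)) _ (mul_mem (inv_mem hb) ha)
      rw [show (y ^ a)⁻¹ * ((n * (y ^ b)⁻¹)⁻¹ * (n * (y ^ a)⁻¹)) * (y ^ a)⁻¹⁻¹ =
        (y ^ a)⁻¹ * y ^ b by group, ← Nat.add_sub_cancel' hab, pow_add,
        inv_mul_cancel_left] at h2
      exact h2
    obtain ⟨t, ht⟩ := (hye _).1 h1
    rw [← Nat.add_sub_cancel' hab, pow_add, ht, pow_mul, hω.pow_eq_one, one_pow, mul_one]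
  let ν : N →* (Cfsg.AlgInt ⧸ M) :=
    { toFun := fun n => ω ^ i n
      map_one' := (hwd 1 (i 1) 0 (hi 1) (by simp [one_mem])).trans (pow_zero ω)
      map_mul' := fun n m => by
        rw [← pow_add]
        refine hwd _ _ _ (hi (n * m)) ?_
        have h1 := mul_mem (hi n) (hCn _ (pow_mem hy (i n)) _ (hi m))
        rw [show (n : G) * (y ^ i n)⁻¹ * (y ^ i n * ((m : G) * (y ^ i m)⁻¹) * (y ^ i n)⁻¹) =
          ((n * m : N) : G) * (y ^ (i n + i m))⁻¹ by rw [pow_add, Subgroup.coe_mul]; group] at h1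
        exact h1 }
  have hνC : ∀ n : N, (n : G) ∈ C → ν n = 1 := fun n hn =>
    (hwd n (i n) 0 (hi n) (by simpa using hn)).trans (pow_zero ω)
  have hνy : ν ⟨y, hy⟩ = ω :=
    (hwd y (i ⟨y, hy⟩) 1 (hi ⟨y, hy⟩) (by simp [one_mem])).trans (pow_one ω)
  let μ : Fin e → N →* (Cfsg.AlgInt ⧸ M) := fun j =>
    (powMonoidHom (j : ℕ)).comp ν
  have hμC : ∀ j (n : N), (n : G) ∈ C → μ j n = 1 := fun j n hn => by
    simp [μ, hνC n hn]
  have hμne : ∀ j j', j ≠ j' → μ j ≠ μ j' := by
    intro j j' hne h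
    have h1 := DFunLike.congr_fun h ⟨y, hy⟩
    simp only [μ, MonoidHom.comp_apply, powMonoidHom_apply, hνy] at h1
    exact hne (Fin.ext (hω.pow_inj j.2 j'.2 h1))
  choose V f hf hnf using fun j => hS.exists_weight_module hM (μ j) (hμC j)
  -- distinct weights give distinct modules
  have hfree : ∀ q ∈ (P : Subgroup G), q ≠ 1 → ∀ g : G, g⁻¹ * q * g ∈ N → g ∈ N := by
    intro q hq hq1 g hg
    refine hS.mem_normalizer hq hq1 ?_
    have hQ : IsPGroup p (Subgroup.zpowers (g⁻¹ * q * g)) := by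
      obtain ⟨k, hk⟩ := (IsPGroup.iff_orderOf.1 P.2) ⟨q, hq⟩
      refine IsPGroup.of_card (n := k) ?_
      rw [Nat.card_zpowers, ← hk, ← Subgroup.orderOf_coe,
        show g⁻¹ * q * g = g⁻¹ * q * g⁻¹⁻¹ by group]
      exact orderOf_injective (MulAut.conj g⁻¹).toMonoidHom (MulAut.conj g⁻¹).injective q
    have h1 : g⁻¹ * q * g ∈ Subgroup.zpowers (g⁻¹ * q * g) ⊓ N :=
      ⟨Subgroup.mem_zpowers _, hg⟩
    rw [hN, hQ.inf_normalizer_sylow] at h1
    exact h1.2
  have hidx : ((((P : Subgroup G).subgroupOf N).index : ℕ) : Cfsg.AlgInt ⧸ M) ≠ 0 := by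
    rw [Ne, CharP.cast_eq_zero_iff (Cfsg.AlgInt ⧸ M) p]
    intro h
    apply P.not_dvd_index
    rw [← Subgroup.relIndex_mul_index hPN]
    exact h.mul_right _
  have hKN : K ≤ N := hKC.trans (Subgroup.centralizer_le_normalizer _)
  have hKp' : (Nat.card K : Cfsg.AlgInt ⧸ M) ≠ 0 := by
    rwa [Ne, CharP.cast_eq_zero_iff (Cfsg.AlgInt ⧸ M) p]
  have : Fintype K := Fintype.ofFinite _
  have : Fintype (P : Subgroup G) := Fintype.ofFinite _
  have hgenN : ∀ n : N, ∃ (c : N) (a b : ℕ), (c : G) ∈ K ∧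
      n = c * (⟨x, hPN hx⟩ : N) ^ a * (⟨y, hy⟩ : N) ^ b := by
    intro n
    obtain ⟨q, hq, b, hb, hqb⟩ := hKP _ (hi n)
    rw [← hS.zpowers_eq hx hx1, mem_zpowers_iff_mem_range_orderOf] at hq
    obtain ⟨a, -, rfl⟩ := Finset.mem_image.1 hq
    refine ⟨⟨b, hKN hb⟩, a, i n, hb, Subtype.ext ?_⟩
    simp only [Subgroup.coe_mul, SubmonoidClass.coe_pow]
    rw [← hqb, inv_mul_cancel_right]
  have hxp : (⟨x, hPN hx⟩ : N) ^ p = 1 := Subtype.ext (by
    rw [SubmonoidClass.coe_pow, ← hxo, pow_orderOf_eq_one]; rfl)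
  have hyx : (⟨y, hy⟩ : N) * ⟨x, hPN hx⟩ = (⟨x, hPN hx⟩ : N) ^ r * ⟨y, hy⟩ := Subtype.ext (by
    rw [Subgroup.coe_mul, Subgroup.coe_mul, SubmonoidClass.coe_pow]
    exact mul_inv_eq_iff_eq_mul.1 hr)
  have hyeK : ((((⟨y, hy⟩ : N) ^ e : N)) : G) ∈ K := by
    rw [SubmonoidClass.coe_pow]
    exact (hKmem _).2 ⟨(hye e).2 dvd_rfl, hyp⟩
  have hne : ∀ j j', j ≠ j' →
      ∀ L : (V j).V →ₗ[MonoidAlgebra (Cfsg.AlgInt ⧸ M) G] (V j').V, L = 0 := by
    intro j j' hjj L
    refine (LinearMap.bijective_or_eq_zero L).resolve_left fun hb => ?_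
    have hf' := (hf j').comp L
    obtain ⟨φ, hφ, hφf, hφf'⟩ := exists_separating_weights K hKN (fun n hn => hKn n hn) hKp' hxp
      hyx hyeK hω he0 hgenN (fun c hc => hμC j c (hKC hc)) (fun c hc => hμC j' c (hKC hc))
      (hμC j _ (hPC hx)) (hμC j' _ (hPC hx)) (hμne j j' hjj) (hf j) hf'
    refine false_of_two_weights (P : Subgroup G) hPN hfree hidx (hf j) hf' (hnf j) ?_ hφ hφf hφf'
    rintro ⟨h, hh⟩
    set Le := LinearEquiv.ofBijective L hb with hLe
    refine hnf j' ⟨h ∘ₗ (Le.symm : (V j').V →ₗ[MonoidAlgebra (Cfsg.AlgInt ⧸ M) G]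
      (V j).V).restrictScalars (Cfsg.AlgInt ⧸ M), ?_⟩
    rw [← trN_comp, ← hh]
    refine LinearMap.ext fun v => ?_
    show f j' v = f j' (L (Le.symm v))
    exact congrArg (f j') (Le.apply_symm_apply v).symm
  -- independence of the traces
  let t : Fin e → G → Cfsg.AlgInt ⧸ M := fun j => tr M (V j).V
  have hli : LinearIndependent (Cfsg.AlgInt ⧸ M) t := by
    rw [Fintype.linearIndependent_iff]
    intro c hc j₀
    obtain ⟨a, ha⟩ := exists_elt_trace (fun j => (V j).V) hne j₀
    have h1 : ∑ g, a.coeff g * (∑ j, c j • t j) g = c j₀ := by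
      simp only [Finset.sum_apply, Pi.smul_apply, smul_eq_mul, Finset.mul_sum]
      rw [Finset.sum_comm]
      simp only [mul_left_comm _ (c _), ← Finset.mul_sum, t, ← trace_lsmul_eq, ha, mul_ite, mul_one,
        mul_zero, Finset.sum_ite_eq', Finset.mem_univ, if_true]
    rw [← h1, hc]
    simp
  -- the span
  let ρ : Cfsg.IrrCharacter G → G → Cfsg.AlgInt ⧸ M := fun ψ g =>
    resFun hM ((ψ : G → ℂ) (pPrimePartOf p g))
  choose! cT hcT using hT
  have hmem : ∀ j, t j ∈
      Submodule.span (Cfsg.AlgInt ⧸ M) ((T.image ρ : Finset _) : Set _) := by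
    intro j
    obtain ⟨m, hm⟩ := exists_tr_eq (S := (V j).V) hM (V j).fix
    have e1 : t j = ∑ χ ∈ Finset.univ.filter (· ∈ Cfsg.principalBlock M G),
        ∑ ψ ∈ T, (m χ * (cT χ ψ : Cfsg.AlgInt ⧸ M)) • ρ ψ := by
      funext g
      show tr M (V j).V g = _
      rw [tr_pPrimePartOf (p := p) hM g, hm, ← Finset.sum_filter, Finset.sum_apply]
      refine Finset.sum_congr rfl fun χ hχ => ?_
      rw [hcT χ (Finset.mem_filter.1 hχ).2 _ (not_dvd_orderOf_pPrimePartOf hp g),
        resFun_sum hM _ fun ψ _ => (localRing hM).mul_mem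
          (memLocalRing_of_isIntegral hM (isIntegral_intCast _))
          (memLocalRing_char hM (Char.IsIrr.isCharacter ψ.2) _),
        Finset.sum_apply, Finset.mul_sum]
      refine Finset.sum_congr rfl fun ψ _ => ?_
      rw [resFun_mul hM (memLocalRing_of_isIntegral hM (isIntegral_intCast _))
        (memLocalRing_char hM (Char.IsIrr.isCharacter ψ.2) _), ← coe_intCast, resFun_coe,
        map_intCast, Pi.smul_apply, smul_eq_mul, mul_assoc]
    rw [e1]
    exact Submodule.sum_mem _ fun χ _ => Submodule.sum_mem _ fun ψ hψ =>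
      Submodule.smul_mem _ _ (Submodule.subset_span (Finset.mem_image_of_mem ρ hψ))
  have h1 := finrank_span_eq_card hli
  rw [Fintype.card_fin] at h1
  rw [← h1]
  exact (Submodule.finrank_mono (Submodule.span_le.2 (Set.range_subset_iff.2 hmem))).trans
    ((finrank_span_finset_le_card _).trans Finset.card_image_le)

end Cfsg.Agent.BlockThms.OrderP
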