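import Mathlib
import Cfsg.Agent.BlockThms.OrderP.Coord
import Cfsg.Agent.BlockThms.OrderP.Combin
import Cfsg.Agent.BlockThms.OrderP.Span
import Cfsg.Agent.BlockThms.DefectZero
import Cfsg.Agent.Invol.Section942
import Cfsg.Agent.Char.Integral

/-!
# The principal block of a group with a Sylow subgroup of prime order
-/

set_option autoImplicit false

namespace Cfsg.Agent.BlockThms.OrderP

open scoped ComplexConjugate
open Cfsg.Agent Cfsg.Agent.Blocks

universe u

variable {G : Type u} [Group G] [Fintype G] {p : ℕ} [Fact p.Prime] {P : Sylow p G} {e : ℕ}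
  (hS : Setup P e) {M : Ideal Cfsg.AlgInt}
include hS

/-- No character of the principal block has degree divisible by `p`. -/
theorem Setup.not_dvd_degree (hM : Cfsg.IsPModular p M) {χ : Cfsg.IrrCharacter G}
    (hχ : χ ∈ Cfsg.principalBlock M G) : ¬ p ∣ Cfsg.charDegree (χ : G → ℂ) := by
  intro hd
  have hp : p.Prime := Fact.out
  have hdG : Cfsg.charDegree (χ : G → ℂ) ∣ Nat.card G :=
    Char.IsIrr.degree_dvd_card χ.2 (charDegree_cast (Char.IsIrr.isCharacter χ.2)).symm
  have hns : ¬ p ∣ Nat.card G / Cfsg.charDegree (χ : G → ℂ) := by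
    intro h
    have h2 : p ^ 2 ∣ Nat.card G := by
      rw [sq, ← Nat.mul_div_cancel' hdG]
      exact mul_dvd_mul hd h
    have h3 := (hp.pow_dvd_iff_le_factorization Nat.card_pos.ne').1 h2
    rw [hS.factorization.2] at h3
    omega
  have hsing := BlockThms.blockOf_eq_singleton hM χ hns
  have hB : Cfsg.principalBlock M G = Cfsg.blockOf M (χ : G → ℂ) :=
    IsPBlock.eq_blockOf hM (isPBlock_principalBlock M) hχ
  have h1 := triv_mem_principalBlock (G := G) hM
  rw [hB, hsing, Set.mem_singleton_iff] at h1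
  rw [← h1, charDegree_eq (n := 1) (by simp [triv])] at hd
  exact hp.not_dvd_one hd

omit hS [Fintype G] in
/-- A function invariant under `U`, zero at `0`, with all `theta`-moments zero vanishes. -/
theorem eq_zero_of_moments {U : Finset (ZMod p)} (hU : UnitSet U) {D : ZMod p → ℂ} (h0 : D 0 = 0)
    (hinv : ∀ v ∈ U, ∀ t, D (v * t) = D t)
    (hmom : ∀ b : ZMod p, b ≠ 0 → ∑ t, theta U b t * D t = 0) : ∀ t, D t = 0 := by
  classical
  set F : ZMod p → ℂ := fun b => ∑ t, psi p (b * t) * D t with hF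
  have hFb : ∀ b, F b = F 0 := by
    intro b
    by_cases hb : b = 0
    · rw [hb]
    have h1 := hmom b hb
    have e1 : ∀ u ∈ U, ∑ t, psi p (b * u * t) * D t = F b := by
      intro u hu
      refine Fintype.sum_equiv (Equiv.mulLeft₀ u (hU.ne_zero u hu)) _ _ fun t => ?_
      show psi p (b * u * t) * D t = psi p (b * (u * t)) * D (u * t)
      rw [hinv u hu, mul_assoc]
    simp only [theta, Finset.sum_mul] at h1
    rw [Finset.sum_comm] at h1
    simp only [sub_mul, one_mul, Finset.sum_sub_distrib] at h1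
    rw [Finset.sum_congr rfl e1, ← Finset.sum_sub_distrib, Finset.sum_const, smul_eq_zero] at h1
    refine (sub_eq_zero.1 (h1.resolve_left (Finset.card_ne_zero.2 ⟨1, hU.one⟩))).symm.trans ?_
    simp [hF]
  intro t₀
  by_cases ht : t₀ = 0
  · rw [ht, h0]
  have h2 : ∑ b, psi p (b * -t₀) * F b = (p : ℂ) * D t₀ := by
    simp only [hF, Finset.mul_sum]
    rw [Finset.sum_comm, Finset.sum_eq_single t₀]
    · have : ∀ b, psi p (b * -t₀) * (psi p (b * t₀) * D t₀) = D t₀ := fun b => by
        rw [← mul_assoc, ← AddChar.map_add_eq_mul, ← mul_add, neg_add_cancel, mul_zero,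
          AddChar.map_zero_eq_one, one_mul]
      rw [Finset.sum_congr rfl fun b _ => this b, Finset.sum_const, Finset.card_univ, ZMod.card,
        nsmul_eq_mul]
    · intro t _ htne
      rw [Finset.sum_congr rfl (g := fun b => psi p ((t - t₀) * b) * D t) fun b _ => by
        rw [← mul_assoc, ← AddChar.map_add_eq_mul, ← mul_add, neg_add_eq_sub, mul_comm b],
        ← Finset.sum_mul, sum_psi, if_neg (sub_ne_zero.2 htne), zero_mul]
    · exact fun h => absurd (Finset.mem_univ t₀) h
  rw [Finset.sum_congr rfl fun b _ => by rw [hFb b], ← Finset.sum_mul] at h2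
  simp only [mul_comm _ (-t₀), sum_psi, neg_eq_zero, if_neg ht, zero_mul] at h2
  exact (mul_eq_zero.1 h2.symm).resolve_left (Nat.cast_ne_zero.2 (Fact.out : p.Prime).ne_zero)

/-- The structure of the principal block. -/
theorem Setup.principal_structure (hM : Cfsg.IsPModular p M) :
    ∃ (X Y : Finset (Cfsg.IrrCharacter G)) (a : Cfsg.IrrCharacter G → ℤ) (s : ℤ),
      Disjoint X Y ∧ X.card = e ∧ Y.card = (p - 1) / e ∧
      (∀ χ, χ ∈ Cfsg.principalBlock M G ↔ χ ∈ X ∨ χ ∈ Y) ∧ (s = 1 ∨ s = -1) ∧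
      (∀ χ ∈ X, (a χ = 1 ∨ a χ = -1) ∧
        (Cfsg.charDegree (χ : G → ℂ) : ℤ) ≡ a χ [ZMOD p] ∧
        ∀ z ∈ (P : Subgroup G), z ≠ 1 → ∀ y ∈ Subgroup.centralizer (P : Set G), ¬ p ∣ orderOf y →
          (χ : G → ℂ) (z * y) = (a χ : ℂ)) ∧
      (∀ θ ∈ Y, (Cfsg.charDegree (θ : G → ℂ) : ℤ) ≡ -((e : ℤ) * s) [ZMOD p]) ∧
      (∀ θ ∈ Y, ∀ θ' ∈ Y, ∀ g : G, ¬ p ∣ orderOf g → (θ : G → ℂ) g = (θ' : G → ℂ) g) ∧
      ∀ θ ∈ Y, ∀ g : G, ¬ p ∣ orderOf g →
        (s : ℂ) * (θ : G → ℂ) g + ∑ χ ∈ X, (a χ : ℂ) * (χ : G → ℂ) g = 0 := by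
  classical
  have hp : p.Prime := Fact.out
  have hMax : M.IsMaximal := hM.2.1
  obtain ⟨x, hx, -, hxo⟩ := hS.exists_gen
  obtain ⟨hdvd, U, hU, hUe, hN, hconjU⟩ := hS.exists_unitSet hx hxo
  set f := (p - 1) / e with hfdef
  have hfe : U.card * f = p - 1 := by rw [hUe]; exact Nat.mul_div_cancel' hdvd
  have hf : 0 < f := Nat.div_pos (Nat.le_of_dvd (Nat.sub_pos_of_lt hp.one_lt) hdvd) hS.e_pos
  obtain ⟨a, ha0, hainj, hasum⟩ := exists_reps hU hfe
  have hcover : ∀ b : ZMod p, b ≠ 0 → ∃ i, ∃ u ∈ U, a i * u = b := by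
    intro b hb
    by_contra h
    push Not at h
    have h1 := hasum fun c => if c = b then 1 else 0
    rw [Finset.sum_eq_zero fun i _ => Finset.sum_eq_zero fun u hu => if_neg (h i u hu),
      Finset.sum_eq_single_of_mem b (Finset.mem_erase.2 ⟨hb, Finset.mem_univ b⟩)
        (fun c _ hc => if_neg hc), if_pos rfl] at h1
    exact zero_ne_one h1
  set φ : Fin f → G → ℂ := fun i g => theta U (a i) (lg x g) with hφdef
  have hφ : ∀ i, Adm P (φ i) := fun i => hS.adm_theta hx hxo hU hN (a i)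
  have hgen : ∀ i, Cfsg.IsGeneralizedCharacter G (lift P (φ i)) := fun i =>
    hS.isGeneralized_lift (hφ i) (hS.isGeneralized_theta hx hxo (a i))
  choose m hm using fun i => (Char.isGeneralized_iff.1 (hgen i)).2
  -- inner products through the coordinates
  have hreidx : ∀ F : G → ℂ, ∑ u : (P : Subgroup G), F u = ∑ t : ZMod p, F (pw x t) := by
    intro F
    refine (Fintype.sum_bijective (fun t : ZMod p =>
      (⟨pw x t, pow_mem hx _⟩ : (P : Subgroup G))) ⟨fun s t h => ?_, fun u => ?_⟩ _ _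
        fun t => rfl).symm
    · exact pw_injective hxo (congrArg Subtype.val h)
    · obtain ⟨t, ht⟩ := hS.exists_pw hx hxo u.2
      exact ⟨t, Subtype.ext ht⟩
  have hinn : ∀ (i : Fin f) (χ : G → ℂ), Cfsg.IsClassFunction G χ →
      (e : ℂ) * (p : ℂ) * Cfsg.classInner (lift P (φ i)) χ =
        ∑ t : ZMod p, theta U (a i) t * conj (avg p χ (pw x t)) := by
    intro i χ hχ
    rw [hS.classInner_lift (hφ i) hχ, hreidx fun u => φ i u * conj (avg p χ u)]
    exact Finset.sum_congr rfl fun t _ => by simp only [hφdef]; rw [lg_pw hxo]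
  have hep : (e : ℂ) * (p : ℂ) ≠ 0 :=
    mul_ne_zero (Nat.cast_ne_zero.2 hS.e_pos.ne') (Nat.cast_ne_zero.2 hp.ne_zero)
  have hpw0 : ∀ t : ZMod p, pw x t = 1 → t = 0 := fun t ht =>
    pw_injective hxo (ht.trans (by simp [pw]))
  set B := Cfsg.principalBlock M G with hB
  set S := (Set.toFinite B).toFinset with hSdef
  have hmemS : ∀ χ, χ ∈ S ↔ χ ∈ B := fun χ => (Set.toFinite B).mem_toFinset
  have hout : ∀ i χ, χ ∉ S → m i χ = 0 := by
    intro i χ hχ
    have h := hinn i _ (Char.isClassFunction_of_isIrr χ.2)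
    rw [hm i χ, Finset.sum_eq_zero fun t _ => ?_] at h
    · exact Int.cast_eq_zero.1 ((mul_eq_zero.1 h).resolve_left hep)
    · by_cases ht : t = 0
      · rw [ht, theta_zero, zero_mul]
      · rw [hS.avg_eq_zero hM (show pw x t ∈ (P : Subgroup G) from pow_mem hx _) (fun h => ht (hpw0 t h))
          (fun h => hχ ((hmemS χ).2 h)), map_zero, mul_zero]
  -- the total of a column
  have hcol : ∀ χ ∈ S, ∃ n : ℕ, (e : ℤ) * ∑ i, m i χ =
      (p : ℤ) * n - (Cfsg.charDegree (χ : G → ℂ) : ℤ) := by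
    intro χ hχ
    have hχc := Char.IsIrr.isCharacter χ.2
    obtain ⟨n, hn⟩ := Char.classInner_isCharacter_eq_natCast
      (Char.isCharacter_res (P : Subgroup G) hχc) (Char.isCharacter_one (G := (P : Subgroup G)))
    have hsum : ∑ t : ZMod p, (χ : G → ℂ) (pw x t) = (p : ℂ) * n := by
      rw [← hreidx fun u => (χ : G → ℂ) u, ← hn, Cfsg.classInner, hS.card,
        mul_inv_cancel_left₀ (Nat.cast_ne_zero.2 hp.ne_zero)]
      exact Finset.sum_congr rfl fun u _ => by simp
    have h1 : ∑ i, (e : ℂ) * (p : ℂ) * (m i χ : ℂ) =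
        (p : ℂ) * conj ((p : ℂ) * n - (χ : G → ℂ) 1) := by
      rw [Finset.sum_congr rfl fun i _ => by rw [← hm i χ, hinn i _ (Char.isClassFunction_of_isIrr χ.2)],
        Finset.sum_comm]
      simp only [← Finset.sum_mul, sum_theta_reps hU hfe hasum]
      rw [← hsum, ← Finset.add_sum_erase _ _ (Finset.mem_univ (0 : ZMod p)), if_pos rfl, zero_mul,
        zero_add, ← Finset.add_sum_erase _ (fun t => (χ : G → ℂ) (pw x t))
          (Finset.mem_univ (0 : ZMod p)), show pw x (0 : ZMod p) = 1 by simp [pw],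
        add_sub_cancel_left, map_sum, Finset.mul_sum]
      refine Finset.sum_congr rfl fun t ht => ?_
      have ht0 := Finset.ne_of_mem_erase ht
      rw [if_neg ht0, hS.apply_eq_avg hM (show pw x t ∈ (P : Subgroup G) from pow_mem hx _) (fun h => ht0 (hpw0 t h))
        ((hmemS χ).1 hχ)]
    refine ⟨n, ?_⟩
    rw [← charDegree_cast hχc, ← Finset.mul_sum, map_sub, map_mul, Complex.conj_natCast,
      Complex.conj_natCast, Complex.conj_natCast, mul_assoc, mul_left_comm] at h1
    have h2 := mul_left_cancel₀ (Nat.cast_ne_zero.2 hp.ne_zero) h1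
    exact_mod_cast h2
  -- the degree of a member through its column
  have hne : ∀ χ ∈ S, ∃ i, m i χ ≠ 0 := by
    intro χ hχ
    by_contra h
    push Not at h
    obtain ⟨n, hn⟩ := hcol χ hχ
    rw [Finset.sum_eq_zero fun i _ => h i, mul_zero, eq_comm, sub_eq_zero] at hn
    exact hS.not_dvd_degree hM ((hmemS χ).1 hχ)
      (Int.natCast_dvd_natCast.1 ⟨(n : ℤ), hn.symm⟩)
  have hclass : ∀ i, Cfsg.IsClassFunction G (lift P (φ i)) := fun i => hS.lift_class (hφ i)
  have hinner : ∀ i j, ∑ χ ∈ S, m i χ * m j χ = (e : ℤ) + if i = j then 1 else 0 := by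
    intro i j
    have h := hS.classInner_lift_lift (hφ i) (hφ j)
    rw [hreidx fun u => φ i u * conj (φ j u), Finset.sum_congr rfl (g := fun t =>
      theta U (a i) t * conj (theta U (a j) t)) (fun t _ => by simp only [hφdef]; rw [lg_pw hxo]),
      sum_theta_mul_conj hU (ha0 i) (ha0 j), hUe, mul_comm (e : ℂ) (p : ℂ), mul_assoc] at h
    have h' := mul_left_cancel₀ (Nat.cast_ne_zero.2 hp.ne_zero) h
    rw [Char.classInner_eq_sum (hclass i)] at h'
    have e1 : ∀ χ : Cfsg.IrrCharacter G,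
        Cfsg.classInner (χ : G → ℂ) (lift P (φ j)) = (m j χ : ℂ) := fun χ => by
      rw [← Char.classInner_conj_symm, hm j χ]; simp
    simp only [hm i, e1] at h'
    have e2 : ∑ u ∈ U, ∑ v ∈ U, (if a i * u = a j * v then (1 : ℂ) else 0) =
        if i = j then (e : ℂ) else 0 := by
      rw [Finset.sum_congr rfl (g := fun _ => if i = j then (1 : ℂ) else 0) fun u hu => ?_,
        Finset.sum_const, hUe]
      · split_ifs <;> simp
      · split_ifs with hij
        · subst hij
          rw [Finset.sum_eq_single u]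
          · rw [if_pos rfl]
          · intro v hv hvu
            rw [if_neg fun h => hvu (hainj i i u hu v hv h).2.symm]
          · exact fun h => absurd hu h
        · exact Finset.sum_eq_zero fun v hv => if_neg fun h => hij (hainj i j u hu v hv h).1
    rw [e2] at h'
    have h'' : (∑ χ : Cfsg.IrrCharacter G, (m i χ : ℂ) * (m j χ : ℂ)) =
        (e : ℂ) + if i = j then 1 else 0 := by
      refine mul_left_cancel₀ (Nat.cast_ne_zero.2 hS.e_pos.ne') (h'.trans ?_)
      split_ifs <;> ring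
    rw [← Finset.sum_subset (Finset.subset_univ S) fun χ _ hχ => by rw [hout i χ hχ]; simp] at h''
    split_ifs at h'' ⊢ <;> exact_mod_cast h''
  have htriv : ∀ i, m i (triv G) = 1 := by
    intro i
    have h := hinn i _ (Char.isClassFunction_of_isIrr (triv G).2)
    rw [hm i] at h
    have hav : ∀ t : ZMod p, avg p ((triv G : Cfsg.IrrCharacter G) : G → ℂ) (pw x t) = 1 := by
      intro t
      have hne : ((fiber p (pw x t)).card : ℂ) ≠ 0 :=
        Nat.cast_ne_zero.2 (Finset.card_ne_zero.2 ⟨_, self_mem_fiber (pow_mem hx _)⟩)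
      rw [avg, Finset.sum_congr rfl (g := fun _ => (1 : ℂ)) fun g _ => by simp [triv],
        Finset.sum_const, nsmul_eq_mul, mul_one, inv_mul_cancel₀ hne]
    simp only [hav, map_one, mul_one, sum_theta hU (ha0 i), hUe, mul_comm (p : ℂ) (e : ℂ)] at h
    exact Int.cast_eq_one.1 ((mul_right_eq_self₀.1 h).resolve_right hep)
  have hvan : ∀ (i : Fin f) (y : {y : G // ¬ p ∣ orderOf y}),
      ∑ χ ∈ S, (m i χ : ℂ) * (χ : G → ℂ) y.1 = 0 := by
    intro i y
    have h := Invol.apply_eq_sum (hclass i) y.1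
    simp only [hm i, hS.lift_regular (hφ i) y.2] at h
    rw [← h]
    exact Finset.sum_subset (Finset.subset_univ S) fun χ _ hχ => by rw [hout i χ hχ]; simp
  obtain ⟨X, hXS, -, hXcard, hcard, α, s, hs, hX, hY, hYeq, hrel⟩ :=
    block_structure (Y := {y : G // ¬ p ∣ orderOf y}) hf hS.e_pos S (triv G)
    ((hmemS _).2 (triv_mem_principalBlock hM)) m (fun χ y => (χ : G → ℂ) y.1)
    ⟨1, by rw [orderOf_one, Nat.dvd_one]; exact hp.ne_one⟩
    (fun χ _ => ⟨_, charDegree_pos χ.2, (charDegree_cast (Char.IsIrr.isCharacter χ.2)).symm⟩)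
    hne hinner htriv hvan fun T _ hT => hS.le_card_of_span hM T fun χ hχ => by
      obtain ⟨c, hc⟩ := hT χ ((hmemS χ).2 hχ)
      exact ⟨c, fun y hy => hc ⟨y, hy⟩⟩
  have hef : (e : ℤ) * (f : ℤ) = (p : ℤ) - 1 := by
    have h : e * f = p - 1 := Nat.mul_div_cancel' hdvd
    have h2 : ((e * f : ℕ) : ℤ) = ((p - 1 : ℕ) : ℤ) := by rw [h]
    rw [Nat.cast_mul, Nat.cast_sub hp.pos] at h2
    simpa using h2
  refine ⟨X, S \ X, α, s, Finset.disjoint_sdiff, hXcard, ?_, fun χ => ?_, hs, fun χ hχ => ?_,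
    fun θ hθ => ?_, fun θ hθ θ' hθ' g hg => ?_, fun θ hθ g hg => ?_⟩
  · rw [Finset.card_sdiff_of_subset hXS, hXcard, hcard, hfdef]
    omega
  · rw [← hmemS χ, Finset.mem_sdiff]
    by_cases h : χ ∈ X
    · simp [h, hXS h]
    · simp [h]
  · obtain ⟨ha, hm'⟩ := hX χ hχ
    have hχB := (hmemS χ).1 (hXS hχ)
    refine ⟨ha, ?_, ?_⟩
    · obtain ⟨n, hn⟩ := hcol χ (hXS hχ)
      rw [Finset.sum_congr rfl fun i _ => hm' i, Finset.sum_const, Finset.card_univ,
        Fintype.card_fin, nsmul_eq_mul] at hn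
      rw [Int.modEq_iff_dvd]
      refine ⟨α χ - n, ?_⟩
      linear_combination (α χ) * hef - hn
    · intro z hz hz1 y hy hyp
      have hconst : ∀ t : ZMod p, t ≠ 0 → (χ : G → ℂ) (pw x t) = (α χ : ℂ) := by
        set D : ZMod p → ℂ := fun t =>
          if t = 0 then 0 else conj ((χ : G → ℂ) (pw x t)) - (α χ : ℂ) with hD
        have hD0 : ∀ t, D t = 0 := by
          refine eq_zero_of_moments hU (if_pos rfl) (fun v hv t => ?_) fun b hb => ?_
          · by_cases ht : t = 0
            · simp [hD, ht]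
            · have hvne := mul_ne_zero (hU.ne_zero v hv) ht
              simp only [hD, if_neg ht, if_neg hvne]
              obtain ⟨c, hc⟩ : ∃ c : G, c * pw x t * c⁻¹ = pw x (v * t) :=
                hconjU v hv t
              rw [← hc, Char.isClassFunction_of_isIrr χ.2]
          · obtain ⟨i, u, hu, rfl⟩ := hcover b hb
            have e1 : theta U (a i * u) = theta U (a i) := funext fun t => by
              conv_rhs => rw [← hU.theta_mul (a i) hu t]
              simp only [theta]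
              refine Finset.sum_congr rfl fun w _ => ?_
              congr 2
              ring
            rw [e1]
            have h1 := hinn i _ (Char.isClassFunction_of_isIrr χ.2)
            rw [hm i χ, hm' i] at h1
            have h2 : ∀ t, theta U (a i) t * D t = theta U (a i) t *
                conj (avg p (χ : G → ℂ) (pw x t)) - theta U (a i) t * (α χ : ℂ) := by
              intro t
              by_cases ht : t = 0
              · simp [ht, theta_zero]
              · simp only [hD, if_neg ht]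
                rw [hS.apply_eq_avg hM (show pw x t ∈ (P : Subgroup G) from pow_mem hx _)
                  (fun h => ht (hpw0 t h)) hχB]
                ring
            rw [Finset.sum_congr rfl fun t _ => h2 t, Finset.sum_sub_distrib, ← h1,
              ← Finset.sum_mul, sum_theta hU (ha0 i), hUe]
            ring
        intro t ht
        have h := hD0 t
        simp only [hD, if_neg ht, sub_eq_zero] at h
        have h' := congrArg conj h
        rwa [Complex.conj_conj, map_intCast] at h'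
      obtain ⟨t, rfl⟩ := hS.exists_pw hx hxo hz
      have ht : t ≠ 0 := fun h => hz1 (by simp [h, pw])
      rw [← hconst t ht]
      have hCz := hS.centralizer_eq hz hz1
      set K := Cfsg.pPrimeCore p (Subgroup.centralizer ({pw x t} : Set G) : Subgroup G) with hK
      have hcomp : Cfsg.HasNormalPComplement p
          (Subgroup.centralizer ({pw x t} : Set G) : Subgroup G) := by
        rw [hCz]; exact hS.complement
      obtain ⟨L, hL, hc, j, hj⟩ := Fusion.hasNormalPComplement_iff_exists.1 hcomp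
      obtain ⟨k, -, hk⟩ := (Nat.dvd_prime_pow hp).1
        (hj ▸ Subgroup.index_dvd_of_le (Core.le_pPrimeCore (p := p) hc))
      exact Invol.section_constant hM (exists_orderOf_pow hz) K Core.not_dvd_card_pPrimeCore hχB
        (v := ⟨y, hCz ▸ hy⟩)
        (BlockThms.mem_of_regular hp ⟨k, hk⟩ (show ¬ p ∣ orderOf _ by
          rwa [← Subgroup.orderOf_coe]))
  · obtain ⟨hθS, hθX⟩ := Finset.mem_sdiff.1 hθ
    obtain ⟨n, hn⟩ := hcol θ hθS
    rw [hY θ hθS hθX] at hn
    rw [Int.modEq_iff_dvd]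
    refine ⟨-n, ?_⟩
    linear_combination -hn
  · exact congrFun (hYeq θ (Finset.mem_sdiff.1 hθ).1 (Finset.mem_sdiff.1 hθ).2 θ'
      (Finset.mem_sdiff.1 hθ').1 (Finset.mem_sdiff.1 hθ').2) ⟨g, hg⟩
  · exact hrel θ (Finset.mem_sdiff.1 hθ).1 (Finset.mem_sdiff.1 hθ).2 ⟨g, hg⟩

/-- The principal block has `e + (p - 1) / e` members, of degree `±1` or `±e` modulo `p`. -/
theorem Setup.principal_block (hM : Cfsg.IsPModular p M) :
    Nat.card (Cfsg.principalBlock M G) = e + (p - 1) / e ∧
      ∀ χ ∈ Cfsg.principalBlock M G,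
        ((Cfsg.charDegree (χ : G → ℂ) : ℤ) ≡ 1 [ZMOD p] ∨
        (Cfsg.charDegree (χ : G → ℂ) : ℤ) ≡ -1 [ZMOD p] ∨
        (Cfsg.charDegree (χ : G → ℂ) : ℤ) ≡ (e : ℤ) [ZMOD p] ∨
        (Cfsg.charDegree (χ : G → ℂ) : ℤ) ≡ -(e : ℤ) [ZMOD p]) := by
  classical
  obtain ⟨X, Y, a, s, hXY, hXc, hYc, hmem, hs, hX, hY, -, -⟩ := hS.principal_structure hM
  refine ⟨?_, fun χ hχ => ?_⟩
  · rw [← hYc, ← hXc, ← Finset.card_union_of_disjoint hXY, ← Nat.card_eq_finsetCard]
    exact Nat.card_congr (Equiv.subtypeEquivRight fun χ => by rw [hmem, Finset.mem_union])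
  · rcases (hmem χ).1 hχ with h | h
    · obtain ⟨ha, hd, -⟩ := hX χ h
      rcases ha with ha | ha <;> rw [ha] at hd
      · exact Or.inl hd
      · exact Or.inr (Or.inl hd)
    · have hd := hY χ h
      rcases hs with rfl | rfl
      · exact Or.inr (Or.inr (Or.inr (by rwa [mul_one] at hd)))
      · exact Or.inr (Or.inr (Or.inl (by rwa [mul_neg, mul_one, neg_neg] at hd)))

end Cfsg.Agent.BlockThms.OrderP
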